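import Groth.Agent.L08.KrullHopf
import Mathlib.RingTheory.KrullDimension.Basic
import Mathlib.RingTheory.Ideal.Quotient.Operations

/-!
# Basic facts on connected one-dimensional reduced groups
-/

set_option autoImplicit false

universe u

noncomputable section

namespace Groth.L01.DimOne

variable {k : Type u} [Field k] {A : Type u} [CommRing A] [Algebra k A]

/-- Algebraic elements of a domain over an algebraically closed field are scalars. -/
theorem mem_range_of_isIntegral [IsAlgClosed k] [IsDomain A] {a : A} (ha : IsIntegral k a) :
    ∃ c : k, a = algebraMap k A c := by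
  have h1 := minpoly.irreducible ha
  have h2 := minpoly.aeval k a
  have h3 := IsAlgClosed.degree_eq_one_of_irreducible k h1
  rw [Polynomial.eq_X_add_C_of_degree_eq_one h3, (minpoly.monic ha).leadingCoeff, map_one, one_mul, map_add,
    Polynomial.aeval_X, Polynomial.aeval_C] at h2
  exact ⟨-((minpoly k a).coeff 0), by rw [map_neg]; exact eq_neg_of_add_eq_zero_left h2⟩

end Groth.L01.DimOne
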