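import Groth.Agent.L08.KrullHopf
import Groth.Agent.L08.FlagGroup
import Groth.Agent.L08.Points
import Groth.Agent.S7975
import Mathlib.LinearAlgebra.Charpoly.ToMatrix
import Mathlib.RingTheory.KrullDimension.Basic

/-!
# Connected one-dimensional groups are commutative
-/

set_option autoImplicit false

universe u v w

open TensorProduct WithConv Groth.L08

noncomputable section

namespace Groth.L01.DimOne

variable {k : Type u} [Field k] [IsAlgClosed k] {A : Type v} [CommRing A] [Algebra k A]
  [Algebra.FiniteType k A]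

/-- Points separate a reduced algebra. -/
theorem ext_points [IsReduced A] {a b : A} (h : ∀ x : A →ₐ[k] k, x a = x b) : a = b := by
  by_contra hne
  have hn : a - b ∉ nilradical A := fun hn => hne (sub_eq_zero.1 (mem_nilradical.1 hn).eq_zero)
  rw [nilradical, ← Ideal.sInf_minimalPrimes, Ideal.mem_sInf] at hn
  push Not at hn
  obtain ⟨P, hP, hab⟩ := hn
  haveI : P.IsPrime := hP.1.1
  obtain ⟨χ, -, hχ⟩ := KrullHopf.exists_point_notMem k P hab
  exact hχ (by rw [map_sub, h, sub_self])

theorem algHom_ext_points {C : Type v} [CommRing C] [Algebra k C] [Algebra.FiniteType k C] [IsReduced C]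
    {f g : A →ₐ[k] C} (h : ∀ x : C →ₐ[k] k, x.comp f = x.comp g) : f = g :=
  AlgHom.ext fun a => ext_points fun x => congrArg (fun φ : A →ₐ[k] k => φ a) (h x)

/-- A map out of a one-dimensional domain is injective or constant. -/
theorem injective_or_const [IsDomain A] [Ring.KrullDimLE 1 A] {D : Type v} [CommRing D] [IsDomain D]
    [Algebra k D] (f : A →ₐ[k] D) : Function.Injective f ∨ ∃ χ : A →ₐ[k] k, ∀ a, f a = algebraMap k D (χ a) := by
  by_cases hP : RingHom.ker f = ⊥
  · exact Or.inl ((RingHom.injective_iff_ker_eq_bot f).2 hP)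
  · haveI := RingHom.ker_isPrime f
    haveI : (RingHom.ker f).IsMaximal := Ideal.IsPrime.isMaximal_of_ne_bot ‹_› hP
    haveI : IsJacobsonRing A := isJacobsonRing_of_finiteType (A := k) (B := A)
    obtain ⟨χ, hle, -⟩ := KrullHopf.exists_point_notMem k (RingHom.ker f)
      (a := 1) (fun h => (RingHom.ker_ne_top f) ((Ideal.eq_top_iff_one _).2 h))
    refine Or.inr ⟨χ, fun a => sub_eq_zero.1 ?_⟩
    have heq : RingHom.ker f = RingHom.ker χ :=
      (‹(RingHom.ker f).IsMaximal›).eq_of_le (RingHom.ker_ne_top χ) hle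
    have h : a - algebraMap k A (χ a) ∈ RingHom.ker f := by
      rw [heq, RingHom.mem_ker, map_sub, AlgHom.commutes]
      exact sub_self _
    rwa [RingHom.mem_ker, map_sub, AlgHom.commutes] at h

end Groth.L01.DimOne

namespace Groth.L01.DimOne

variable {k : Type u} [Field k] {A : Type v} [CommRing A] [HopfAlgebra k A]
  (V : Type v) [AddCommGroup V] [Module k V] [HopfRep.Comod k A V] {ι : Type v} [Fintype ι] [DecidableEq ι]
  (b : Module.Basis ι k V)

/-- The matrix of coefficients. -/
def coefMat : Matrix ι ι A := fun i j => cf (A := A) (b.coord i) (b j)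

theorem toMatrix_ptHom {R : Type w} [CommRing R] [Algebra k R] (g : WithConv (A →ₐ[k] R)) :
    LinearMap.toMatrix (Algebra.TensorProduct.basis R b) (Algebra.TensorProduct.basis R b) (ptHom V R g) =
      (coefMat V b).map g.ofConv := by
  ext i j
  rw [LinearMap.toMatrix_apply, Algebra.TensorProduct.basis_apply, ptHom_one_tmul, Matrix.map_apply]
  simp only [coefMat, cf, ptVec, LinearMap.comp_apply]
  induction HopfRep.Comod.coact (k := k) (A := A) (b j) with
  | zero => simp
  | add p q hp hq => simp only [map_add, Finsupp.add_apply, hp, hq]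
  | tmul w a => simp [Algebra.TensorProduct.basis_repr_tmul, Algebra.smul_def, mul_comm]

theorem coefMat_map_mul {R : Type w} [CommRing R] [Algebra k R] (g h : WithConv (A →ₐ[k] R)) :
    (coefMat V b).map (g * h).ofConv = (coefMat V b).map g.ofConv * (coefMat V b).map h.ofConv := by
  rw [← toMatrix_ptHom, ← toMatrix_ptHom, ← toMatrix_ptHom, map_mul, LinearMap.toMatrix_mul]

theorem coefMat_map_one {R : Type w} [CommRing R] [Algebra k R] :
    (coefMat V b).map (1 : WithConv (A →ₐ[k] R)).ofConv = 1 := by
  rw [← toMatrix_ptHom, map_one, LinearMap.toMatrix_one]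

theorem toMatrix_ptAct (g : WithConv (A →ₐ[k] k)) :
    LinearMap.toMatrix b b (ptAct (A := A) V g) = (coefMat V b).map g.ofConv := by
  ext i j
  rw [LinearMap.toMatrix_apply, Matrix.map_apply, ptAct_apply]
  exact (apply_cf (A := A) g.ofConv.toLinearMap (b.coord i) (b j)).symm

variable [IsAlgClosed k] [Algebra.FiniteType k A] [IsDomain A] [Ring.KrullDimLE 1 A]

/-- The constant point. -/
def cA (g : WithConv (A →ₐ[k] k)) : WithConv (A →ₐ[k] A) := toConv ((Algebra.ofId k A).comp g.ofConv)

/-- The conjugation map at a point. -/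
def conjMap (g : WithConv (A →ₐ[k] k)) : A →ₐ[k] A :=
  (toConv (AlgHom.id k A) * cA g * (toConv (AlgHom.id k A))⁻¹).ofConv

theorem post_mul' {R S : Type v} [CommRing R] [CommRing S] [Algebra k R] [Algebra k S] (f : R →ₐ[k] S)
    (g h : WithConv (A →ₐ[k] R)) :
    toConv (f.comp (g * h).ofConv) = toConv (f.comp g.ofConv) * toConv (f.comp h.ofConv) :=
  WithConv.ofConv_injective (AlgHom.comp_convMul_distrib f g h)

theorem eval_mul (x : A →ₐ[k] k) (g h : WithConv (A →ₐ[k] A)) :
    toConv (x.comp (g * h).ofConv) = toConv (x.comp g.ofConv) * toConv (x.comp h.ofConv) :=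
  WithConv.ofConv_injective (AlgHom.comp_convMul_distrib x g h)

omit [IsAlgClosed k] [Algebra.FiniteType k A] [IsDomain A] [Ring.KrullDimLE 1 A] in
theorem eval_cA (x : A →ₐ[k] k) (g : WithConv (A →ₐ[k] k)) : toConv (x.comp (cA g).ofConv) = g :=
  WithConv.ofConv_injective (AlgHom.ext fun a => x.commutes _)

theorem eval_conjMap (x : A →ₐ[k] k) (g : WithConv (A →ₐ[k] k)) :
    toConv (x.comp (conjMap g)) = toConv x * g * (toConv x)⁻¹ := by
  let ι₀ : WithConv (A →ₐ[k] A) := toConv (AlgHom.id k A)
  have h1 : toConv (x.comp ι₀.ofConv) = toConv x := rfl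
  have h2 : toConv (x.comp ι₀⁻¹.ofConv) = (toConv x)⁻¹ := by
    refine eq_inv_of_mul_eq_one_left ?_
    rw [← h1, ← eval_mul, inv_mul_cancel]
    exact WithConv.ofConv_injective (AlgHom.ext fun a => x.commutes _)
  rw [conjMap, toConv_ofConv, eval_mul, eval_mul, eval_cA, h1, h2]

theorem conjMap_injective {g : WithConv (A →ₐ[k] k)} (hg : g ∉ Subgroup.center (WithConv (A →ₐ[k] k))) :
    Function.Injective (conjMap g) := by
  rcases injective_or_const (conjMap g) with h | ⟨χ, hχ⟩
  · exact h
  · refine absurd (Subgroup.mem_center_iff.2 fun x => ?_) hg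
    have hval : ∀ y : WithConv (A →ₐ[k] k), y * g * y⁻¹ = toConv χ := fun y => by
      rw [← toConv_ofConv y, ← eval_conjMap]
      exact WithConv.ofConv_injective (AlgHom.ext fun a => by
        show y.ofConv (conjMap g a) = χ a
        rw [hχ, AlgHom.commutes]; rfl)
    have h1 := hval 1
    rw [one_mul, inv_one, mul_one] at h1
    have h2 := congrArg (· * x) ((hval x).trans h1.symm)
    simpa only [mul_assoc, inv_mul_cancel, mul_one] using h2

variable (hnc : ∃ g : WithConv (A →ₐ[k] k), g ∉ Subgroup.center (WithConv (A →ₐ[k] k)))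

include hnc in
/-- In a noncommutative such group every point is unipotent. -/
theorem isNilpotent_act [Module.Finite k V] (y : WithConv (A →ₐ[k] k)) :
    IsNilpotent (ptAct (A := A) V y - 1) := by
  classical
  obtain ⟨g, hg⟩ := hnc
  let b := Module.Free.chooseBasis k V
  let P := (coefMat (A := A) V b).charpoly
  have hP : ∀ (f : A →ₐ[k] A), P.map (f : A →+* A) = ((coefMat V b).map f).charpoly := fun f =>
    (Matrix.charpoly_map _ (f : A →+* A)).symm
  have hPk : ∀ (z : WithConv (A →ₐ[k] k)), P.map (z.ofConv : A →+* k) = ((coefMat V b).map z.ofConv).charpoly :=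
    fun z => (Matrix.charpoly_map _ (z.ofConv : A →+* k)).symm
  let ι₀ : WithConv (A →ₐ[k] A) := toConv (AlgHom.id k A)
  have hconj : P.map (conjMap g : A →+* A) = (P.map (g.ofConv : A →+* k)).map (algebraMap k A) := by
    rw [hP, conjMap, coefMat_map_mul, coefMat_map_mul, hPk, ← Matrix.charpoly_map]
    let U : (Matrix (Module.Free.ChooseBasisIndex k V) (Module.Free.ChooseBasisIndex k V) A)ˣ :=
      ⟨(coefMat V b).map ι₀.ofConv, (coefMat V b).map ι₀⁻¹.ofConv,
        by rw [← coefMat_map_mul, mul_inv_cancel, coefMat_map_one], by rw [← coefMat_map_mul, inv_mul_cancel, coefMat_map_one]⟩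
    refine Eq.trans (congrArg Matrix.charpoly ?_) (Matrix.charpoly_units_conj U _)
    rw [← Matrix.coe_units_inv, Matrix.map_map]
    rfl
  have hconst : ∀ i, P.coeff i = algebraMap k A (g.ofConv (P.coeff i)) := fun i => by
    apply conjMap_injective hg
    rw [AlgHom.commutes]
    have h := congrArg (fun q => Polynomial.coeff q i) hconj
    simpa [Polynomial.coeff_map] using h
  have heq : ∀ z : WithConv (A →ₐ[k] k), P.map (z.ofConv : A →+* k) = P.map (g.ofConv : A →+* k) := fun z => by
    refine Polynomial.ext fun i => ?_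
    rw [Polynomial.coeff_map, Polynomial.coeff_map]
    show z.ofConv (P.coeff i) = g.ofConv (P.coeff i)
    rw [hconst i, AlgHom.commutes, AlgHom.commutes]
  have hy : (LinearMap.toMatrix b b (ptAct (A := A) V y)).charpoly = (1 : Matrix (Module.Free.ChooseBasisIndex k V) (Module.Free.ChooseBasisIndex k V) k).charpoly := by
    rw [toMatrix_ptAct, ← hPk, heq, ← heq 1, hPk, coefMat_map_one]
  have h := Matrix.aeval_self_charpoly (LinearMap.toMatrix b b (ptAct (A := A) V y))
  rw [hy, Matrix.charpoly_one, map_pow, map_sub, Polynomial.aeval_X, map_one,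
    ← LinearMap.toMatrix_one b, ← map_sub, LinearMap.toMatrix_pow] at h
  exact ⟨_, (LinearMap.toMatrix b b).injective (h.trans (map_zero _).symm)⟩

include hnc in
theorem isUnipotent : HopfRep.IsUnipotent k A := by
  intro V _ _ _ _ _
  obtain ⟨v, hv0, hv⟩ := Groth.Agent.S7975.result k (WithConv (A →ₐ[k] k)) V (ptAct (A := A) V)
    fun y => isNilpotent_act V hnc y
  intro hbot
  apply hv0
  have hmem : v ∈ HopfRep.fixedPts k A V := by
    show HopfRep.Comod.coact (k := k) (A := A) v = v ⊗ₜ[k] (1 : A)
    classical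
    let b := Module.Free.chooseBasis k V
    refine (TensorProduct.equivFinsuppOfBasisLeft b).injective (Finsupp.ext fun i => ?_)
    rw [TensorProduct.equivFinsuppOfBasisLeft_apply, TensorProduct.equivFinsuppOfBasisLeft_apply,
      LinearMap.rTensor_tmul, TensorProduct.lid_tmul]
    refine ext_points (k := k) fun x => ?_
    rw [map_smul, map_one, smul_eq_mul, mul_one]
    exact (apply_cf (A := A) x.toLinearMap (b.coord i) v).trans (congrArg (b.coord i) (hv (toConv x)))
  rwa [hbot, Submodule.mem_bot] at hmem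

/-- A point whose commutators are central is central. -/
theorem mem_center_of_commutator {g : WithConv (A →ₐ[k] k)} (hg : g ∉ Subgroup.center (WithConv (A →ₐ[k] k)))
    (hcomm : ∀ h, h * g * h⁻¹ * g⁻¹ ∈ Subgroup.center (WithConv (A →ₐ[k] k))) :
    g ∈ Subgroup.center (WithConv (A →ₐ[k] k)) := by
  refine inv_mem_iff.1 (Subgroup.mem_center_iff.2 fun z => ?_)
  let ι₀ : WithConv (A →ₐ[k] A) := toConv (AlgHom.id k A)
  let φ₁ := (cA z * (ι₀ * cA g⁻¹)).ofConv
  let φ₂ := (ι₀ * cA g⁻¹ * cA z).ofConv
  have heval₁ : ∀ w : A →ₐ[k] k, toConv (w.comp φ₁) = z * (toConv w * g⁻¹) := fun w => by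
    show toConv (w.comp (cA z * (ι₀ * cA g⁻¹)).ofConv) = _
    rw [toConv_ofConv, eval_mul, eval_mul, eval_cA, eval_cA, show toConv (w.comp ι₀.ofConv) = toConv w from rfl]
  have heval₂ : ∀ w : A →ₐ[k] k, toConv (w.comp φ₂) = toConv w * g⁻¹ * z := fun w => by
    show toConv (w.comp (ι₀ * cA g⁻¹ * cA z).ofConv) = _
    rw [toConv_ofConv, eval_mul, eval_mul, eval_cA, eval_cA, show toConv (w.comp ι₀.ofConv) = toConv w from rfl]
  have h12 : (conjMap g).comp φ₁ = (conjMap g).comp φ₂ := algHom_ext_points fun w => by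
    apply WithConv.toConv_injective
    rw [← AlgHom.comp_assoc, ← AlgHom.comp_assoc, heval₁, heval₂, eval_conjMap]
    exact Subgroup.mem_center_iff.1 (hcomm (toConv w)) z
  have h : φ₁ = φ₂ := AlgHom.ext fun a => by
    refine conjMap_injective hg ?_
    have h3 := DFunLike.congr_fun h12 a
    rwa [AlgHom.comp_apply, AlgHom.comp_apply] at h3
  have key : ∀ w : A →ₐ[k] k, toConv w * g⁻¹ * z = z * (toConv w * g⁻¹) := fun w =>
    ((heval₂ w).symm.trans (congrArg (fun φ : A →ₐ[k] A => toConv (w.comp φ)) h.symm)).trans (heval₁ w)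
  have key' : ∀ y : WithConv (A →ₐ[k] k), y * g⁻¹ * z = z * (y * g⁻¹) := fun y => key y.ofConv
  have h1 := key' 1
  rw [one_mul] at h1
  exact h1.symm

/-- The points of a connected one-dimensional group commute. -/
theorem points_comm (x y : WithConv (A →ₐ[k] k)) : x * y = y * x := by
  by_contra hxy
  have hnc : ∃ g : WithConv (A →ₐ[k] k), g ∉ Subgroup.center (WithConv (A →ₐ[k] k)) :=
    ⟨y, fun hy => hxy (Subgroup.mem_center_iff.1 hy x)⟩
  haveI := isNilpotent_points (isUnipotent hnc)
  let Z := Subgroup.center (WithConv (A →ₐ[k] k))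
  obtain ⟨g, hg, hcomm⟩ : ∃ g, g ∉ Z ∧ ∀ h, h * g * h⁻¹ * g⁻¹ ∈ Z := by
    by_contra! hall
    obtain ⟨n, hn⟩ := (Group.isNilpotent_iff _).1 ‹Group.IsNilpotent (WithConv (A →ₐ[k] k))›
    have hle : ∀ n, Subgroup.upperCentralSeries (WithConv (A →ₐ[k] k)) n ≤ Z := by
      intro n
      induction n with
      | zero => simp
      | succ n ih =>
        intro g hg
        by_contra hgZ
        obtain ⟨h, hh⟩ := hall g hgZ
        refine hh ?_
        have h3 := inv_mem (ih (Subgroup.mem_upperCentralSeries_succ_iff.1 hg h))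
        rw [commutatorElement_def] at h3
        simpa only [mul_inv_rev, inv_inv, mul_assoc] using h3
    obtain ⟨g, hg⟩ := hnc
    exact hg (hle n (hn ▸ Subgroup.mem_top g))
  exact hg (mem_center_of_commutator hg hcomm)

/-- Connected one-dimensional groups are commutative. -/
theorem isCocomm : Coalgebra.IsCocomm k A := by
  refine ⟨LinearMap.ext fun a => ?_⟩
  classical
  let b := Module.Free.chooseBasis k A
  refine (TensorProduct.equivFinsuppOfBasisLeft b).injective (Finsupp.ext fun i => ?_)
  simp only [TensorProduct.equivFinsuppOfBasisLeft_apply]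
  refine ext_points (k := k) fun y => ?_
  let Φ : A ⊗[k] A →ₗ[k] A := TensorProduct.rid k A ∘ₗ y.toLinearMap.lTensor A
  have key : Φ ((TensorProduct.comm k A A) (Coalgebra.comul (R := k) a)) = Φ (Coalgebra.comul (R := k) a) := by
    refine ext_points (k := k) fun x => ?_
    have e : ∀ w : A ⊗[k] A, x (Φ w) = LinearMap.mul' k k (TensorProduct.map x.toLinearMap y.toLinearMap w) := by
      intro w
      induction w with
      | zero => simp
      | add p q hp hq => simp only [map_add, hp, hq]
      | tmul p q => simp [Φ, mul_comm]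
    have e2 : ∀ w : A ⊗[k] A, LinearMap.mul' k k (TensorProduct.map x.toLinearMap y.toLinearMap ((TensorProduct.comm k A A) w)) =
        LinearMap.mul' k k (TensorProduct.map y.toLinearMap x.toLinearMap w) := by
      intro w
      induction w with
      | zero => simp
      | add p q hp hq => simp only [map_add, hp, hq]
      | tmul p q => simp [mul_comm]
    rw [e, e, e2]
    have h := congrArg (fun u : WithConv (A →ₐ[k] k) => u.ofConv a) (points_comm (toConv y) (toConv x))
    rw [AlgHom.convMul_apply, AlgHom.convMul_apply] at h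
    convert h using 1 <;> (induction Coalgebra.comul (R := k) a with
      | zero => simp
      | add p q hp hq => simp only [map_add, hp, hq]
      | tmul p q => simp)
  have e3 : ∀ w : A ⊗[k] A, y (TensorProduct.lid k A ((b.coord i).rTensor A w)) = b.coord i (Φ w) := by
    intro w
    induction w with
    | zero => simp
    | add p q hp hq => simp only [map_add, hp, hq]
    | tmul p q => simp [Φ, mul_comm]
  exact (e3 _).trans ((congrArg (b.coord i) key).trans (e3 _).symm)

end Groth.L01.DimOne
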