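import Groth.Agent.L01.DimOne.Comm
import Groth.Agent.L01.DimOne.Basic
import Groth.Agent.L01.UnipSplit.Basic
import Groth.Agent.L01.UnipSplit.SmoothKer
import Groth.Agent.L25.CocycleNormalForm
import Groth.Agent.L25.HopfSub
import Groth.Agent.L08.CartierRed
import Groth.Agent.S15177
import Groth.Agent.S7987
import Mathlib.RingTheory.HopfAlgebra.Quotient
import Mathlib.LinearAlgebra.Eigenspace.Zero
import Mathlib.FieldTheory.Perfect

/-!
# Connected one-dimensional unipotent groups are additive groups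
-/

set_option autoImplicit false

universe u

open TensorProduct WithConv Groth.L08 Polynomial
open Groth.L01.SmoothKer (IsPrim)

noncomputable section

namespace Groth.L01.DimOne

variable {k : Type u} [Field k] [IsAlgClosed k] {A : Type u} [CommRing A] [HopfAlgebra k A]
  [Algebra.FiniteType k A] [IsDomain A] [Ring.KrullDimLE 1 A]

omit [IsAlgClosed k] [Algebra.FiniteType k A] [IsDomain A] [Ring.KrullDimLE 1 A] in
theorem isPrim_sub {g h : A} (hg : IsPrim (k := k) g) (hh : IsPrim (k := k) h) : IsPrim (k := k) (g - h) := by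
  unfold Groth.L01.SmoothKer.IsPrim at *
  rw [map_sub, hg, hh, TensorProduct.sub_tmul, TensorProduct.tmul_sub]
  abel

omit [IsAlgClosed k] [Algebra.FiniteType k A] [IsDomain A] [Ring.KrullDimLE 1 A] in
theorem isPrim_zero : IsPrim (k := k) (0 : A) := by
  unfold Groth.L01.SmoothKer.IsPrim
  simp

/-- Non-zero additive functions are transcendental. -/
theorem eq_zero_of_aeval {g : A} (hg : IsPrim (k := k) g) (h0 : g ≠ 0) {p : k[X]} (hp : aeval g p = 0) : p = 0 := by
  by_contra hne
  obtain ⟨c, hc⟩ := mem_range_of_isIntegral (k := k) (isAlgebraic_iff_isIntegral.1 ⟨p, hne, hp⟩ : IsIntegral k g)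
  have h1 := hg.counit
  rw [hc, Bialgebra.counit_algebraMap] at h1
  exact h0 (by rw [hc, h1, map_zero])

omit [IsAlgClosed k] [IsDomain A] [Ring.KrullDimLE 1 A] [HopfAlgebra k A] [Algebra.FiniteType k A] in
/-- A left inverse of the evaluation at a transcendental element. -/
theorem exists_leftInv [Algebra k A] {g : A} (hg : ∀ p : k[X], aeval g p = 0 → p = 0) :
    ∃ L : A →ₗ[k] k[X], ∀ p, L (aeval g p) = p := by
  let f : k[X] →ₗ[k] A := (aeval g).toLinearMap
  have hf : LinearMap.ker f = ⊥ := LinearMap.ker_eq_bot'.2 fun p hp => hg p hp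
  obtain ⟨L, hL⟩ := f.exists_leftInverse_of_injective hf
  exact ⟨L, fun p => LinearMap.congr_fun hL p⟩

/-- Modulo a non-zero additive function the algebra is finite. -/
theorem finite_quotient {g : A} (h0 : g ≠ 0) : Module.Finite k (A ⧸ Ideal.span {g}) := by
  haveI : IsNoetherianRing A := Algebra.FiniteType.isNoetherianRing k A
  let π := Ideal.Quotient.mk (Ideal.span {g})
  haveI : Ring.KrullDimLE 0 (A ⧸ Ideal.span {g}) := Ring.KrullDimLE.mk₀ fun P hP => by
    haveI := hP
    haveI : (P.comap π).IsPrime := Ideal.comap_isPrime _ _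
    haveI : (P.comap π).IsMaximal := by
      refine Ideal.IsPrime.isMaximal_of_ne_bot inferInstance fun h => h0 ?_
      have : g ∈ P.comap π := by
        rw [Ideal.mem_comap, Ideal.Quotient.eq_zero_iff_mem.2 (Ideal.mem_span_singleton_self g)]; exact zero_mem _
      rwa [h, Ideal.mem_bot] at this
    rw [← Ideal.map_comap_of_surjective π Ideal.Quotient.mk_surjective P]
    exact Ideal.IsMaximal.map_of_surjective_of_ker_le Ideal.Quotient.mk_surjective (Ideal.comap_mono (bot_le (a := P)))
  haveI : IsArtinianRing (A ⧸ Ideal.span {g}) :=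
    isArtinianRing_iff_isNoetherianRing_krullDimLE_zero.2 ⟨inferInstance, inferInstance⟩
  haveI : Algebra.FiniteType k (A ⧸ Ideal.span {g}) :=
    Algebra.FiniteType.of_surjective (Ideal.Quotient.mkₐ k (Ideal.span {g})) Ideal.Quotient.mk_surjective
  exact (Module.finite_iff_isArtinianRing k _).2 inferInstance

/-- additive polynomials -/
def IsAdd (q : k[X]) : Prop := q.coeff 0 = 0 ∧ ∀ j, 0 < j → hasseDeriv j q = C (q.coeff j)

/-- Polynomials giving additive functions of a transcendental additive function are additive. -/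
theorem isAdd_of_isPrim {g : A} (hg : IsPrim (k := k) g) (h0 : g ≠ 0) {r : k[X]}
    (hr : IsPrim (k := k) (aeval g r)) : IsAdd r := by
  have htr : ∀ p : k[X], aeval g p = 0 → p = 0 := fun p => eq_zero_of_aeval hg h0
  have hr0 : r.coeff 0 = 0 := by
    have h := hr.counit
    rw [show Coalgebra.counit (R := k) (aeval g r) = Bialgebra.counitAlgHom k A (aeval g r) from rfl,
      ← aeval_algHom_apply, show Bialgebra.counitAlgHom k A g = 0 from hg.counit, ← coeff_zero_eq_aeval_zero] at h
    exact h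
  refine ⟨hr0, fun j hj => ?_⟩
  let N := r.natDegree + j + 1
  let x : A ⊗[k] A := g ⊗ₜ[k] (1 : A)
  let T := taylor x (r.map (algebraMap k (A ⊗[k] A)))
  have hT : ∀ i, T.coeff i = (aeval g (hasseDeriv i r)) ⊗ₜ[k] (1 : A) := by
    intro i
    rw [taylor_coeff, UnipSplit.hasseDeriv_map, eval_map, ← aeval_def,
      show (x : A ⊗[k] A) = (Algebra.TensorProduct.includeLeft : A →ₐ[k] A ⊗[k] A) g from rfl, aeval_algHom_apply]
    rfl
  have hTdeg : T.natDegree < N := by
    rw [natDegree_taylor]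
    exact lt_of_le_of_lt natDegree_map_le (by omega)
  have e1 : T.eval ((1 : A) ⊗ₜ[k] g) = aeval g r ⊗ₜ[k] (1 : A) + (1 : A) ⊗ₜ[k] aeval g r := by
    rw [taylor_eval, eval_map, ← aeval_def, add_comm, ← hr,
      show x + (1 : A) ⊗ₜ[k] g = Bialgebra.comulAlgHom k A g from hg.symm, aeval_algHom_apply]
    rfl
  rw [eval_eq_sum_range' hTdeg] at e1
  let c : ℕ → A := fun i => aeval g (hasseDeriv i r) -
    ((if i = 0 then aeval g r else 0) + algebraMap k A (r.coeff i))
  have hc : ∑ i ∈ Finset.range N, c i ⊗ₜ[k] (g ^ i) = 0 := by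
    have e2 : (1 : A) ⊗ₜ[k] aeval g r = ∑ i ∈ Finset.range N, algebraMap k A (r.coeff i) ⊗ₜ[k] (g ^ i) := by
      rw [aeval_eq_sum_range' (show r.natDegree < N by omega), TensorProduct.tmul_sum]
      exact Finset.sum_congr rfl fun i _ => by
        rw [Algebra.algebraMap_eq_smul_one, TensorProduct.smul_tmul]
    simp only [c, TensorProduct.sub_tmul, TensorProduct.add_tmul, Finset.sum_sub_distrib, Finset.sum_add_distrib,
      ← e2]
    rw [Finset.sum_eq_single (f := fun i => (if i = 0 then aeval g r else 0) ⊗ₜ[k] (g ^ i)) 0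
      (fun i _ hi => by simp [if_neg hi]) (fun h => absurd (Finset.mem_range.2 (by omega)) h), if_pos rfl, pow_zero,
      ← e1, sub_eq_zero]
    exact Finset.sum_congr rfl fun i _ => by
      rw [hT, Algebra.TensorProduct.tmul_pow, one_pow, Algebra.TensorProduct.tmul_mul_tmul, mul_one, one_mul]
  have := UnipSplit.coeff_eq_zero_of_sum g N (fun p _ => htr p) c hc j (by omega)
  simp only [c, if_neg hj.ne', zero_add] at this
  refine sub_eq_zero.1 (htr _ ?_)
  rw [map_sub, aeval_C]
  exact this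

theorem IsAdd.exists_pow {q : k[X]} (h : IsAdd q) (p : ℕ) [ExpChar k p] {i : ℕ} (hi : q.coeff i ≠ 0) :
    ∃ a, i = p ^ a := by
  have hi0 : 0 < i := Nat.pos_of_ne_zero fun e => hi (e ▸ h.1)
  have hch : ∀ j, 0 < j → j < i → (i.choose j : k) = 0 := by
    intro j hj hji
    have h1 := congrArg (fun r => coeff r (i - j)) (h.2 j hj)
    simp only [hasseDeriv_coeff, coeff_C, if_neg (show i - j ≠ 0 by omega), Nat.sub_add_cancel hji.le] at h1
    exact (mul_eq_zero.1 h1).resolve_right hi
  cases ‹ExpChar k p› with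
  | zero =>
    refine ⟨0, ?_⟩
    by_contra hne
    have := hch 1 one_pos (by simpa using (show 1 < i by simp at hne; omega))
    rw [Nat.choose_one_right, Nat.cast_eq_zero] at this
    omega
  | prime hp =>
    haveI : Fact p.Prime := ⟨hp⟩
    obtain ⟨v, m, hm, rfl⟩ := Nat.exists_eq_pow_mul_and_not_dvd hi0.ne' p hp.ne_one
    refine ⟨v, ?_⟩
    by_contra hne
    have hm1 : 1 < m := by
      rcases m with _ | _ | m
      · simp at hi0
      · simp at hne
      · omega
    have h1 : ¬ p ∣ (p ^ v * m).choose (p ^ v) :=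
      Groth.L25.CocycleComb.not_dvd_choose (by rwa [Nat.mul_div_cancel_left m (pow_pos hp.pos v)])
    exact h1 ((CharP.cast_eq_zero_iff k p _).1 (hch (p ^ v) (pow_pos hp.pos v)
      (lt_mul_of_one_lt_right (pow_pos hp.pos v) hm1)))

omit [IsAlgClosed k] [Algebra.FiniteType k A] [Ring.KrullDimLE 1 A] in
theorem isPrim_smul_pow (p : ℕ) [ExpChar k p] {g : A} (hg : IsPrim (k := k) g) (c : k) (a : ℕ) :
    IsPrim (k := k) (c • g ^ p ^ a) := by
  haveI : Nontrivial (A ⊗[k] A) := (Bialgebra.counitAlgHom k (A ⊗[k] A)).toRingHom.domain_nontrivial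
  haveI : ExpChar (A ⊗[k] A) p := expChar_of_injective_algebraMap (algebraMap k (A ⊗[k] A)).injective p
  unfold Groth.L01.SmoothKer.IsPrim at *
  rw [map_smul, Bialgebra.comul_pow, hg, add_pow_expChar_pow, Algebra.TensorProduct.tmul_pow,
    Algebra.TensorProduct.tmul_pow, one_pow, smul_add, TensorProduct.smul_tmul', TensorProduct.tmul_smul]

/-- The euclidean step. -/
theorem exists_gen_aux (p : ℕ) [ExpChar k p] : ∀ (n : ℕ) (g h : A) (q r : k[X]), q.natDegree + r.natDegree ≤ n →
    IsPrim (k := k) g → IsPrim (k := k) h → IsAdd q → IsAdd r → q ≠ 0 → r ≠ 0 → aeval h q = aeval g r →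
    ∃ g' : A, IsPrim (k := k) g' ∧ g ∈ Algebra.adjoin k {g'} ∧ h ∈ Algebra.adjoin k {g'} := by
  intro n
  induction n using Nat.strong_induction_on with
  | _ n ih =>
  intro g h q r hn hg hh hq hr hq0 hr0 heq
  suffices key : ∀ (g h : A) (q r : k[X]), q.natDegree + r.natDegree ≤ n → q.natDegree ≤ r.natDegree →
      IsPrim (k := k) g → IsPrim (k := k) h → IsAdd q → IsAdd r → q ≠ 0 → r ≠ 0 → aeval h q = aeval g r →
      ∃ g' : A, IsPrim (k := k) g' ∧ g ∈ Algebra.adjoin k {g'} ∧ h ∈ Algebra.adjoin k {g'} by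
    rcases le_total q.natDegree r.natDegree with hle | hle
    · exact key g h q r hn hle hg hh hq hr hq0 hr0 heq
    · obtain ⟨g', h1, h2, h3⟩ := key h g r q (by omega) hle hh hg hr hq hr0 hq0 heq.symm
      exact ⟨g', h1, h3, h2⟩
  clear hn hg hh hq hr hq0 hr0 heq g h q r
  intro g h q r hn hle hg hh hq hr hq0 hr0 heq
  by_cases hg0 : g = 0
  · exact ⟨h, hh, hg0 ▸ zero_mem _, Algebra.self_mem_adjoin_singleton k h⟩
  have hlq : q.leadingCoeff ≠ 0 := leadingCoeff_ne_zero.2 hq0
  have hlr : r.leadingCoeff ≠ 0 := leadingCoeff_ne_zero.2 hr0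
  obtain ⟨a, ha⟩ := hq.exists_pow p hlq
  obtain ⟨b, hb⟩ := hr.exists_pow p hlr
  have hpos : 0 < p := expChar_pos k p
  obtain ⟨c, hc⟩ := IsAlgClosed.exists_pow_nat_eq (k := k) (r.leadingCoeff / q.leadingCoeff)
    (n := q.natDegree) (ha ▸ pow_pos hpos a)
  obtain ⟨e, he, heq'⟩ : ∃ e, q.natDegree * p ^ e = r.natDegree ∧ True := by
    by_cases hab : a ≤ b
    · exact ⟨b - a, by rw [ha, hb, ← pow_add, Nat.add_sub_cancel' hab], trivial⟩
    · refine ⟨0, ?_, trivial⟩
      have : p ^ b ≤ p ^ a := Nat.pow_le_pow_right hpos (le_of_not_ge hab)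
      simp
      omega
  let s : k[X] := C c * X ^ p ^ e
  let h' := h - c • g ^ p ^ e
  have hh' : IsPrim (k := k) h' := isPrim_sub hh (isPrim_smul_pow p hg c e)
  let r' := r - q.comp s
  have hs : aeval g s = c • g ^ p ^ e := by simp [s, Algebra.smul_def]
  have hr' : aeval g r' = aeval h' q := by
    have h1 := UnipSplit.eval_add_of_hasseDeriv hq.1 hq.2 h' (c • g ^ p ^ e)
    rw [sub_add_cancel] at h1
    rw [map_sub, aeval_comp, hs, ← heq, h1, add_sub_cancel_right]
  have hprim : IsPrim (k := k) (aeval g r') := by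
    rw [hr']
    unfold Groth.L01.SmoothKer.IsPrim at *
    show Bialgebra.comulAlgHom k A (aeval h' q) = _
    rw [← aeval_algHom_apply, Bialgebra.comulAlgHom_apply, hh',
      UnipSplit.eval_add_of_hasseDeriv hq.1 hq.2,
      show h' ⊗ₜ[k] (1 : A) = (Algebra.TensorProduct.includeLeft : A →ₐ[k] A ⊗[k] A) h' from rfl,
      show (1 : A) ⊗ₜ[k] h' = (Algebra.TensorProduct.includeRight : A →ₐ[k] A ⊗[k] A) h' from rfl,
      aeval_algHom_apply, aeval_algHom_apply]
    rfl
  by_cases hr'0 : r' = 0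
  · have hh0 : h' = 0 := by
      by_contra hne
      rw [hr'0, map_zero] at hr'
      exact hq0 (eq_zero_of_aeval hh' hne hr'.symm)
    refine ⟨g, hg, Algebra.self_mem_adjoin_singleton k g, ?_⟩
    rw [sub_eq_zero.1 hh0]
    exact Subalgebra.smul_mem _ (pow_mem (Algebra.self_mem_adjoin_singleton k g) _) _
  have hdeg : r'.natDegree < r.natDegree := by
    have hle' : r'.natDegree ≤ r.natDegree := by
      refine (natDegree_sub_le _ _).trans (max_le le_rfl ?_)
      refine natDegree_comp_le.trans ?_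
      rw [← he]
      exact Nat.mul_le_mul le_rfl ((natDegree_C_mul_le _ _).trans (natDegree_X_pow_le _))
    refine lt_of_le_of_ne hle' fun hdeq => hr'0 (leadingCoeff_eq_zero.1 ?_)
    rw [leadingCoeff, hdeq, coeff_sub, ← leadingCoeff]
    have hsdeg : s.natDegree = p ^ e := by
      refine natDegree_C_mul_X_pow _ _ fun h0 => ?_
      rw [h0, zero_pow (ha ▸ (pow_pos hpos a).ne')] at hc
      exact div_ne_zero hlr hlq hc.symm
    have h2 : (q.comp s).coeff r.natDegree = q.leadingCoeff * c ^ q.natDegree := by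
      rw [← he, ← hsdeg, coeff_comp_degree_mul_degree (by rw [hsdeg]; exact (pow_pos hpos e).ne'),
        leadingCoeff_C_mul_X_pow]
    rw [h2, hc, mul_div_cancel₀ _ hlq, sub_self]
  obtain ⟨g', h1, h2, h3⟩ := ih (q.natDegree + r'.natDegree) (by omega) g h' q r' le_rfl hg hh' hq
    (isAdd_of_isPrim hg hg0 hprim) hq0 hr'0 hr'.symm
  refine ⟨g', h1, h2, ?_⟩
  rw [show h = h' + c • g ^ p ^ e from (sub_add_cancel _ _).symm]
  exact add_mem h3 (Subalgebra.smul_mem _ (pow_mem h2 _) _)

omit [IsAlgClosed k] [Algebra.FiniteType k A] [IsDomain A] [Ring.KrullDimLE 1 A] in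
theorem isHopfSubalgebra_adjoin {g : A} (hg : IsPrim (k := k) g) :
    SGA3.IsHopfSubalgebra k A (Algebra.adjoin k {g}) := by
  let C := Algebra.adjoin k {g}
  have hgC : g ∈ C := Algebra.self_mem_adjoin_singleton k g
  let i := Algebra.TensorProduct.map C.val C.val
  have h1 : C ≤ i.range.comap (Bialgebra.comulAlgHom k A) := Algebra.adjoin_le (Set.singleton_subset_iff.2 (by
    show Coalgebra.comul (R := k) g ∈ i.range
    rw [show Coalgebra.comul (R := k) g = _ from hg]
    exact ⟨(⟨g, hgC⟩ : C) ⊗ₜ[k] (1 : C) + (1 : C) ⊗ₜ[k] (⟨g, hgC⟩ : C), by simp [i]⟩))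
  have h2 : C ≤ C.comap (HopfAlgebra.antipodeAlgHom k A) := Algebra.adjoin_le (Set.singleton_subset_iff.2 (by
    show HopfAlgebraStruct.antipode k g ∈ C
    rw [hg.antipode]; exact neg_mem hgC))
  exact ⟨fun b hb => h1 hb, fun b hb => h2 hb⟩

omit [IsAlgClosed k] [Algebra.FiniteType k A] [IsDomain A] [Ring.KrullDimLE 1 A] in
/-- Functions invariant under the kernel of an additive function are polynomials in it. -/
theorem mem_adjoin_of_fixed {g : A} (hg : IsPrim (k := k) g) {b : A}
    (hb : TensorProduct.map LinearMap.id (Ideal.Quotient.mkₐ k (Ideal.span {g})).toLinearMap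
      (Coalgebra.comul (R := k) b) = b ⊗ₜ[k] (1 : A ⧸ Ideal.span {g})) : b ∈ Algebra.adjoin k {g} := by
  let hC := isHopfSubalgebra_adjoin hg
  letI := Groth.L25.HopfSub.hopfAlgebra hC
  let ψ := Groth.L25.HopfSub.inclBialg hC
  have hε : ∀ y : Algebra.adjoin k {g}, Coalgebra.counit (R := k) y = Coalgebra.counit (R := k) (y : A) :=
    fun y => (CoalgHomClass.counit_comp_apply ψ y).symm
  have hmem : ∀ x ∈ Algebra.adjoin k {g}, x - algebraMap k A (Coalgebra.counit (R := k) x) ∈ Ideal.span {g} := by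
    intro x hx
    induction hx using Algebra.adjoin_induction with
    | mem x hx =>
      rw [Set.mem_singleton_iff.1 hx, hg.counit, map_zero, sub_zero]
      exact Ideal.mem_span_singleton_self g
    | algebraMap c => rw [Bialgebra.counit_algebraMap, sub_self]; exact zero_mem _
    | add x y _ _ hx hy =>
      rw [map_add, map_add, add_sub_add_comm]
      exact add_mem hx hy
    | mul x y _ _ hx hy =>
      rw [Bialgebra.counit_mul, map_mul, show x * y - algebraMap k A (Coalgebra.counit (R := k) x) * algebraMap k A (Coalgebra.counit (R := k) y) =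
        (x - algebraMap k A (Coalgebra.counit (R := k) x)) * y + algebraMap k A (Coalgebra.counit (R := k) x) * (y - algebraMap k A (Coalgebra.counit (R := k) y)) by ring]
      exact add_mem (Ideal.mul_mem_right _ _ hx) (Ideal.mul_mem_left _ _ hy)
  have hJ : Ideal.span {g} = Ideal.map (ψ : Algebra.adjoin k {g} →+* A)
      (RingHom.ker (Bialgebra.counitAlgHom k (Algebra.adjoin k {g}))) := by
    refine le_antisymm ((Ideal.span_singleton_le_iff_mem _).2 ?_) (Ideal.map_le_iff_le_comap.2 fun y hy => ?_)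
    · have hx : (⟨g, Algebra.self_mem_adjoin_singleton k g⟩ : Algebra.adjoin k {g}) ∈
          RingHom.ker (Bialgebra.counitAlgHom k (Algebra.adjoin k {g})) := (hε _).trans hg.counit
      exact Ideal.mem_map_of_mem (ψ : Algebra.adjoin k {g} →+* A) hx
    · have h0 : Coalgebra.counit (R := k) (y : A) = 0 := (hε y).symm.trans hy
      have := hmem (y : A) y.2
      rwa [h0, map_zero, sub_zero] at this
  obtain ⟨y, rfl⟩ := Groth.L25.UnipExt.mem_range_of_fixed ψ hJ hb
  exact y.2

/-- Two additive functions are polynomials in a third one. -/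
theorem exists_gen {g h : A} (hg : IsPrim (k := k) g) (hh : IsPrim (k := k) h) :
    ∃ g' : A, IsPrim (k := k) g' ∧ g ∈ Algebra.adjoin k {g'} ∧ h ∈ Algebra.adjoin k {g'} := by
  by_cases hg0 : g = 0
  · exact ⟨h, hh, hg0 ▸ zero_mem _, Algebra.self_mem_adjoin_singleton k h⟩
  haveI := finite_quotient (k := k) hg0
  let π := Ideal.Quotient.mkₐ k (Ideal.span {g})
  have hint : IsIntegral k (π h) := IsIntegral.of_finite k _
  let q := minpoly k (π h)
  have hεker : Ideal.span {g} ≤ RingHom.ker (Bialgebra.counitAlgHom k A) :=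
    (Ideal.span_singleton_le_iff_mem _).2 hg.counit
  haveI : Nontrivial (A ⧸ Ideal.span {g}) := Ideal.Quotient.nontrivial_iff.2 fun h =>
    RingHom.ker_ne_top (Bialgebra.counitAlgHom k A) (eq_top_iff.2 (h.ge.trans hεker))
  have hqg : aeval h q ∈ Ideal.span {g} := by
    rw [← Ideal.Quotient.eq_zero_iff_mem]
    show π (aeval h q) = 0
    rw [← aeval_algHom_apply, minpoly.aeval]
  have hq0 : q.coeff 0 = 0 := by
    have h1 : Bialgebra.counitAlgHom k A (aeval h q) = 0 := hεker hqg
    rwa [← aeval_algHom_apply, show Bialgebra.counitAlgHom k A h = 0 from hh.counit, ← coeff_zero_eq_aeval_zero] at h1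
  have hq : IsAdd q := by
    refine ⟨hq0, UnipSplit.hasseDeriv_eq_C (minpoly.monic hint) (π h) (fun p hp hp0 => ?_) (minpoly.aeval k _) ?_⟩
    · by_contra hne
      exact absurd (natDegree_le_natDegree (minpoly.degree_le_of_ne_zero k _ hne hp0)) (not_le.2 hp)
    · let Φ : A →ₐ[k] (A ⧸ Ideal.span {g}) ⊗[k] (A ⧸ Ideal.span {g}) :=
        (Algebra.TensorProduct.map π π).comp (Bialgebra.comulAlgHom k A)
      have hΦh : Φ h = π h ⊗ₜ[k] 1 + 1 ⊗ₜ[k] π h := by
        show Algebra.TensorProduct.map π π (Coalgebra.comul (R := k) h) = _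
        rw [show Coalgebra.comul (R := k) h = _ from hh]
        simp
      have hΦg : Φ g = 0 := by
        show Algebra.TensorProduct.map π π (Coalgebra.comul (R := k) g) = 0
        rw [show Coalgebra.comul (R := k) g = _ from hg]
        simp [π, Ideal.Quotient.eq_zero_iff_mem.2 (Ideal.mem_span_singleton_self g)]
      rw [← hΦh, aeval_algHom_apply]
      obtain ⟨y, hy⟩ := Ideal.mem_span_singleton'.1 hqg
      rw [← hy, map_mul, hΦg, mul_zero]
  have hbprim : IsPrim (k := k) (aeval h q) := by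
    unfold Groth.L01.SmoothKer.IsPrim at *
    show Bialgebra.comulAlgHom k A (aeval h q) = _
    rw [← aeval_algHom_apply, Bialgebra.comulAlgHom_apply, hh, UnipSplit.eval_add_of_hasseDeriv hq.1 hq.2,
      show h ⊗ₜ[k] (1 : A) = (Algebra.TensorProduct.includeLeft : A →ₐ[k] A ⊗[k] A) h from rfl,
      show (1 : A) ⊗ₜ[k] h = (Algebra.TensorProduct.includeRight : A →ₐ[k] A ⊗[k] A) h from rfl,
      aeval_algHom_apply, aeval_algHom_apply]
    rfl
  have hmem : aeval h q ∈ Algebra.adjoin k {g} := mem_adjoin_of_fixed hg (by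
    rw [show Coalgebra.comul (R := k) (aeval h q) = _ from hbprim, map_add]
    simp [π, Ideal.Quotient.eq_zero_iff_mem.2 hqg])
  rw [Algebra.adjoin_singleton_eq_range_aeval] at hmem
  obtain ⟨r, hr⟩ := hmem
  have hr' : aeval g r = aeval h q := hr
  by_cases hr0 : r = 0
  · rw [hr0, map_zero] at hr'
    by_cases hh0 : h = 0
    · exact ⟨g, hg, Algebra.self_mem_adjoin_singleton k g, hh0 ▸ zero_mem _⟩
    · exact absurd (eq_zero_of_aeval hh hh0 hr'.symm) (minpoly.ne_zero hint)
  obtain ⟨p, hp⟩ := ExpChar.exists k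
  haveI := hp
  exact exists_gen_aux p _ g h q r le_rfl hg hh hq (isAdd_of_isPrim hg hg0 (hr' ▸ hbprim))
    (minpoly.ne_zero hint) hr0 hr'.symm

theorem exists_gen_finset (s : Finset A) (hs : ∀ x ∈ s, ∃ g : A, IsPrim (k := k) g ∧ x ∈ Algebra.adjoin k {g}) :
    ∃ g : A, IsPrim (k := k) g ∧ ∀ x ∈ s, x ∈ Algebra.adjoin k {g} := by
  classical
  induction s using Finset.induction_on with
  | empty => exact ⟨0, isPrim_zero, by simp⟩
  | insert x s _ ih =>
    obtain ⟨g₁, hg₁, hx⟩ := hs x (Finset.mem_insert_self _ _)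
    obtain ⟨g₂, hg₂, hs'⟩ := ih fun y hy => hs y (Finset.mem_insert_of_mem hy)
    obtain ⟨g, hg, h1, h2⟩ := exists_gen hg₁ hg₂
    refine ⟨g, hg, fun y hy => ?_⟩
    rcases Finset.mem_insert.1 hy with rfl | hy
    · exact Algebra.adjoin_le (Set.singleton_subset_iff.2 h1) hx
    · exact Algebra.adjoin_le (Set.singleton_subset_iff.2 h2) (hs' y hy)

end Groth.L01.DimOne
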