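import Groth.Agent.L01.DimOne.Ga
import Mathlib.LinearAlgebra.TensorProduct.Basis
import Mathlib.LinearAlgebra.SymmetricAlgebra.Basic
import Mathlib.LinearAlgebra.FreeModule.Finite.Matrix

/-!
# Connected one-dimensional unipotent groups are additive groups, continued
-/

set_option autoImplicit false

universe u

open TensorProduct WithConv Groth.L08 Polynomial
open Groth.L01.SmoothKer (IsPrim)

noncomputable section

namespace Groth.L01.DimOne

variable {k : Type u} [Field k] {A : Type u} [CommRing A] [HopfAlgebra k A]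

/-- Contractions on the right separate tensors. -/
theorem ext_contract {z w : A ⊗[k] A}
    (h : ∀ φ : A →ₗ[k] k, TensorProduct.rid k A (φ.lTensor A z) = TensorProduct.rid k A (φ.lTensor A w)) :
    z = w := by
  classical
  let b := Module.Basis.ofVectorSpace k A
  have key : ∀ y i, TensorProduct.equivFinsuppOfBasisRight b y i =
      TensorProduct.rid k A ((b.coord i).lTensor A y) := by
    intro y i
    induction y with
    | zero => simp
    | add p q hp hq => simp only [map_add, Finsupp.add_apply, hp, hq]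
    | tmul m n => simp [TensorProduct.equivFinsuppOfBasisRight_apply_tmul_apply]
  exact (TensorProduct.equivFinsuppOfBasisRight b).injective (Finsupp.ext fun i => by rw [key, key, h])

theorem fAct_regular (φ : A →ₗ[k] k) (v : A) :
    (letI := HopfRep.Comod.regular k A; fAct (A := A) A φ v) =
      TensorProduct.rid k A (φ.lTensor A (Coalgebra.comul (R := k) v)) := rfl

theorem lid_counit_comul (v : A) :
    TensorProduct.lid k A ((Coalgebra.counit (R := k) (A := A)).rTensor A (Coalgebra.comul (R := k) v)) = v := by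
  simp

/-- Contraction of the first factor by the counit. -/
theorem counit_contract (φ : A →ₗ[k] k) (v : A) :
    Coalgebra.counit (R := k) (TensorProduct.rid k A (φ.lTensor A (Coalgebra.comul (R := k) v))) = φ v := by
  conv_rhs => rw [← lid_counit_comul (k := k) v]
  induction Coalgebra.comul (R := k) v with
  | zero => simp
  | add p q hp hq => simp only [map_add, hp, hq]
  | tmul a b => simp [mul_comm]

/-- An element all whose right translates differ by constants is additive up to a constant. -/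
theorem isPrim_of_step {v : A} (h : ∀ φ : A →ₗ[k] k, ∃ c : k,
    TensorProduct.rid k A (φ.lTensor A (Coalgebra.comul (R := k) v)) - φ 1 • v = algebraMap k A c) :
    IsPrim (k := k) (v - algebraMap k A (Coalgebra.counit (R := k) v)) := by
  have hcomul : Coalgebra.comul (R := k) v = v ⊗ₜ[k] (1 : A) + (1 : A) ⊗ₜ[k] v
      - Coalgebra.counit (R := k) v • ((1 : A) ⊗ₜ[k] (1 : A)) := by
    refine ext_contract fun φ => ?_
    obtain ⟨c, hc⟩ := h φ
    have h2 := congrArg (Coalgebra.counit (R := k)) hc
    rw [map_sub, map_smul, counit_contract, Bialgebra.counit_algebraMap, smul_eq_mul] at h2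
    rw [sub_eq_iff_eq_add'.1 hc, ← h2]
    simp only [map_sub, map_add, map_smul, LinearMap.lTensor_tmul, TensorProduct.rid_tmul,
      Algebra.algebraMap_eq_smul_one]
    module
  unfold Groth.L01.SmoothKer.IsPrim
  rw [map_sub, Bialgebra.comul_algebraMap, hcomul, Algebra.TensorProduct.algebraMap_apply]
  simp only [Algebra.algebraMap_eq_smul_one, TensorProduct.sub_tmul, TensorProduct.tmul_sub,
    TensorProduct.tmul_smul, TensorProduct.smul_tmul']
  abel

theorem conv_prim {R : Type u} [CommRing R] [Algebra k R] {g : A} (hg : IsPrim (k := k) g)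
    (x y : WithConv (A →ₐ[k] R)) : (x * y).ofConv g = x.ofConv g + y.ofConv g := by
  rw [AlgHom.convMul_apply, show Coalgebra.comul (R := k) g = _ from hg]
  simp

theorem conv_one_prim {R : Type u} [CommRing R] [Algebra k R] {g : A} (hg : IsPrim (k := k) g) :
    (1 : WithConv (A →ₐ[k] R)).ofConv g = 0 := by
  rw [AlgHom.convOne_apply, hg.counit, map_zero]

theorem conv_pow_prim {R : Type u} [CommRing R] [Algebra k R] {g : A} (hg : IsPrim (k := k) g)
    (x : WithConv (A →ₐ[k] R)) : ∀ n : ℕ, (x ^ n).ofConv g = (n : R) * x.ofConv g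
  | 0 => by rw [pow_zero, conv_one_prim hg, Nat.cast_zero, zero_mul]
  | n + 1 => by rw [pow_succ, conv_prim hg, conv_pow_prim hg x n, Nat.cast_succ, add_mul, one_mul]

theorem mem_adjoin_iff {g x : A} : x ∈ Algebra.adjoin k {g} ↔ ∃ p : k[X], aeval g p = x := by
  rw [Algebra.adjoin_singleton_eq_range_aeval]
  rfl

section Two

variable (g : A)

/-- Evaluation of polynomials in two variables. -/
def φ2 : MvPolynomial (Fin 2) k →ₐ[k] A ⊗[k] A := MvPolynomial.aeval ![g ⊗ₜ[k] (1 : A), (1 : A) ⊗ₜ[k] g]

/-- Evaluation of polynomials in three variables. -/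
def φ3 : MvPolynomial (Fin 3) k →ₐ[k] A ⊗[k] (A ⊗[k] A) :=
  MvPolynomial.aeval ![g ⊗ₜ[k] (1 : A ⊗[k] A), (1 : A) ⊗ₜ[k] (g ⊗ₜ[k] (1 : A)), (1 : A) ⊗ₜ[k] ((1 : A) ⊗ₜ[k] g)]

variable {g}

theorem φ2_tmul (p q : k[X]) :
    φ2 g (Polynomial.aeval (MvPolynomial.X 0) p * Polynomial.aeval (MvPolynomial.X 1) q) =
      (Polynomial.aeval g p) ⊗ₜ[k] (Polynomial.aeval g q) := by
  rw [map_mul, ← Polynomial.aeval_algHom_apply, ← Polynomial.aeval_algHom_apply]
  simp only [φ2, MvPolynomial.aeval_X, Matrix.cons_val_zero, Matrix.cons_val_one]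
  rw [show g ⊗ₜ[k] (1 : A) = (Algebra.TensorProduct.includeLeft : A →ₐ[k] A ⊗[k] A) g from rfl,
    show (1 : A) ⊗ₜ[k] g = (Algebra.TensorProduct.includeRight : A →ₐ[k] A ⊗[k] A) g from rfl,
    Polynomial.aeval_algHom_apply, Polynomial.aeval_algHom_apply]
  simp

theorem φ3_injective (L : A →ₗ[k] k[X]) (hL : ∀ p, L (Polynomial.aeval g p) = p) :
    Function.Injective (φ3 (k := k) g) := by
  let e : Fin 3 → k[X] →ₐ[k] MvPolynomial (Fin 3) k := fun i => Polynomial.aeval (MvPolynomial.X i)
  let Ψ : A ⊗[k] (A ⊗[k] A) →ₗ[k] MvPolynomial (Fin 3) k :=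
    (Algebra.TensorProduct.lift (e 0) (Algebra.TensorProduct.lift (e 1) (e 2) fun _ _ => Commute.all _ _)
      fun _ _ => Commute.all _ _).toLinearMap ∘ₗ TensorProduct.map L (TensorProduct.map L L)
  have hpow : ∀ n : ℕ, L (g ^ n) = (Polynomial.X : k[X]) ^ n := fun n => by
    simpa using hL (Polynomial.X ^ n)
  refine Function.LeftInverse.injective (g := Ψ) fun P => ?_
  induction P using MvPolynomial.induction_on' with
  | monomial s c =>
    rw [show φ3 g (MvPolynomial.monomial s c) = c • ((g ^ s 0) ⊗ₜ[k] ((g ^ s 1) ⊗ₜ[k] (g ^ s 2))) by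
      simp [φ3, MvPolynomial.aeval_monomial, Finsupp.prod_fintype, Fin.prod_univ_three, TensorProduct.smul_tmul', ← Algebra.smul_def]]
    simp [Ψ, e, hpow, MvPolynomial.monomial_eq, Finsupp.prod_fintype, Fin.prod_univ_three,
      MvPolynomial.smul_eq_C_mul, mul_assoc]
  | add P Q hP hQ => rw [map_add, map_add, hP, hQ]

theorem point_φ2 {R : Type u} [CommRing R] [Algebra k R] (x y : A →ₐ[k] R) (F : MvPolynomial (Fin 2) k) :
    Algebra.TensorProduct.lmul' k (Algebra.TensorProduct.map x y (φ2 g F)) =
      MvPolynomial.aeval ![x g, y g] F := by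
  rw [φ2, ← AlgHom.comp_apply, ← AlgHom.comp_apply, MvPolynomial.comp_aeval]
  refine congrArg (fun v : Fin 2 → R => MvPolynomial.aeval v F) ?_
  ext i
  fin_cases i <;> simp

theorem conv_step {R : Type u} [CommRing R] [Algebra k R] {v : A} {F : MvPolynomial (Fin 2) k}
    (hv : Coalgebra.comul (R := k) v = v ⊗ₜ[k] (1 : A) + (1 : A) ⊗ₜ[k] v + φ2 g F)
    (x y : WithConv (A →ₐ[k] R)) :
    (x * y).ofConv v = x.ofConv v + y.ofConv v + MvPolynomial.aeval ![x.ofConv g, y.ofConv g] F := by
  rw [AlgHom.convMul_apply, hv, ← point_φ2 x.ofConv y.ofConv F]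
  simp only [map_add, Algebra.TensorProduct.lift_tmul, map_one, mul_one, one_mul]
  rw [← AlgHom.comp_apply (Algebra.TensorProduct.lmul' k), Algebra.TensorProduct.lmul'_comp_map]

end Two

/-- The cocycle of an element whose translates are polynomials in an additive function. -/
theorem exists_cocycle [Coalgebra.IsCocomm k A] {g : A} (hg : IsPrim (k := k) g) (L : A →ₗ[k] k[X])
    (hL : ∀ p, L (aeval g p) = p) {v : A} (h : ∀ φ : A →ₗ[k] k,
      TensorProduct.rid k A (φ.lTensor A (Coalgebra.comul (R := k) v)) - φ 1 • v - φ v • (1 : A) ∈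
        Algebra.adjoin k {g}) :
    ∃ F : MvPolynomial (Fin 2) k,
      Coalgebra.comul (R := k) v = v ⊗ₜ[k] (1 : A) + (1 : A) ⊗ₜ[k] v + φ2 g F ∧
      MvPolynomial.aeval ![MvPolynomial.X 1, MvPolynomial.X 0] F = F ∧
      MvPolynomial.aeval ![MvPolynomial.X 0, MvPolynomial.X 1 + MvPolynomial.X 2] F
          + MvPolynomial.aeval ![MvPolynomial.X 1, MvPolynomial.X 2] F
          - MvPolynomial.aeval ![MvPolynomial.X 0 + MvPolynomial.X 1, MvPolynomial.X 2] F
          - MvPolynomial.aeval ![MvPolynomial.X 0, MvPolynomial.X 1] F = (0 : MvPolynomial (Fin 3) k) := by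
  classical
  let c := Coalgebra.comul (R := k) v - v ⊗ₜ[k] (1 : A) - (1 : A) ⊗ₜ[k] v
  let P : A →ₗ[k] A := (Polynomial.aeval g).toLinearMap ∘ₗ L
  have hP : ∀ a ∈ Algebra.adjoin k {g}, P a = a := by
    intro a ha
    obtain ⟨p, rfl⟩ := mem_adjoin_iff.1 ha
    exact congrArg (Polynomial.aeval g) (hL p)
  have hcomm : TensorProduct.comm k A A c = c := by
    simp only [c, map_sub, Coalgebra.comm_comul, TensorProduct.comm_tmul]
    abel
  have hl : TensorProduct.map P LinearMap.id c = c := by
    refine ext_contract fun φ => ?_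
    have h1 : ∀ z : A ⊗[k] A, TensorProduct.rid k A (φ.lTensor A (TensorProduct.map P LinearMap.id z)) =
        P (TensorProduct.rid k A (φ.lTensor A z)) := by
      intro z
      induction z with
      | zero => simp
      | add p q hp hq => simp only [map_add, hp, hq]
      | tmul a b => simp
    rw [h1]
    refine hP _ ?_
    simp only [c, map_sub, LinearMap.lTensor_tmul, TensorProduct.rid_tmul]
    exact h φ
  have hr : TensorProduct.map LinearMap.id P c = c := by
    conv_lhs => rw [← hcomm]
    have h1 : ∀ z : A ⊗[k] A, TensorProduct.map LinearMap.id P (TensorProduct.comm k A A z) =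
        TensorProduct.comm k A A (TensorProduct.map P LinearMap.id z) := by
      intro z
      induction z with
      | zero => simp
      | add p q hp hq => simp only [map_add, hp, hq]
      | tmul a b => simp
    rw [h1, hl, hcomm]
  let Ψ : A ⊗[k] A →ₗ[k] MvPolynomial (Fin 2) k :=
    (Algebra.TensorProduct.lift (Polynomial.aeval (MvPolynomial.X 0)) (Polynomial.aeval (MvPolynomial.X 1))
      fun _ _ => Commute.all _ _).toLinearMap ∘ₗ TensorProduct.map L L
  have hΨ : ∀ z, φ2 g (Ψ z) = TensorProduct.map P P z := by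
    intro z
    induction z with
    | zero => simp
    | add p q hp hq => simp only [map_add, hp, hq]
    | tmul a b =>
      refine (φ2_tmul (g := g) (L a) (L b)).trans ?_
      simp [P]
  refine ⟨Ψ c, ?_, ?_, ?_⟩
  · rw [hΨ, show TensorProduct.map P P c = TensorProduct.map P LinearMap.id (TensorProduct.map LinearMap.id P c) by
      rw [TensorProduct.map_map, LinearMap.comp_id, LinearMap.id_comp], hr, hl]
    simp only [c]
    abel
  · have h1 : ∀ z, MvPolynomial.aeval ![MvPolynomial.X 1, MvPolynomial.X 0] (Ψ z) =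
        Ψ (TensorProduct.comm k A A z) := by
      intro z
      induction z with
      | zero => simp
      | add p q hp hq => simp only [map_add, hp, hq]
      | tmul a b =>
        simp [Ψ, ← Polynomial.aeval_algHom_apply, mul_comm]
    rw [h1, hcomm]
  · have hv : Coalgebra.comul (R := k) v = v ⊗ₜ[k] (1 : A) + (1 : A) ⊗ₜ[k] v + φ2 g (Ψ c) := by
      rw [hΨ, show TensorProduct.map P P c = TensorProduct.map P LinearMap.id (TensorProduct.map LinearMap.id P c) by
        rw [TensorProduct.map_map, LinearMap.comp_id, LinearMap.id_comp], hr, hl]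
      simp only [c]
      abel
    let R := A ⊗[k] (A ⊗[k] A)
    let x : WithConv (A →ₐ[k] R) := toConv Algebra.TensorProduct.includeLeft
    let y : WithConv (A →ₐ[k] R) :=
      toConv ((Algebra.TensorProduct.includeRight : A ⊗[k] A →ₐ[k] R).comp Algebra.TensorProduct.includeLeft)
    let z : WithConv (A →ₐ[k] R) :=
      toConv ((Algebra.TensorProduct.includeRight : A ⊗[k] A →ₐ[k] R).comp Algebra.TensorProduct.includeRight)
    have hass := congrArg (fun t : WithConv (A →ₐ[k] R) => t.ofConv v) (mul_assoc x y z)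
    simp only [conv_step hv, conv_prim hg] at hass
    have hev : ∀ (a b : MvPolynomial (Fin 3) k) (F : MvPolynomial (Fin 2) k),
        φ3 g (MvPolynomial.aeval ![a, b] F) = MvPolynomial.aeval ![φ3 g a, φ3 g b] F := by
      intro a b F
      rw [← AlgHom.comp_apply, MvPolynomial.comp_aeval]
      refine congrArg (fun w : Fin 2 → R => MvPolynomial.aeval w F) ?_
      ext i
      fin_cases i <;> simp
    refine φ3_injective L hL ?_
    rw [map_sub, map_sub, map_add, map_zero, hev, hev, hev, hev, map_add, map_add]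
    have e0 : φ3 g (MvPolynomial.X (0 : Fin 3) : MvPolynomial (Fin 3) k) = x.ofConv g := by simp [φ3, x] <;> rfl
    have e1 : φ3 g (MvPolynomial.X (1 : Fin 3) : MvPolynomial (Fin 3) k) = y.ofConv g := by simp [φ3, y] <;> rfl
    have e2 : φ3 g (MvPolynomial.X (2 : Fin 3) : MvPolynomial (Fin 3) k) = z.ofConv g := by simp [φ3, z] <;> rfl
    rw [e0, e1, e2]
    linear_combination -hass

variable [IsAlgClosed k] [Algebra.FiniteType k A] [IsDomain A] [Ring.KrullDimLE 1 A]

omit [Ring.KrullDimLE 1 A] [IsDomain A] in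
theorem points_pow_eq_one (hU : HopfRep.IsUnipotent k A) (p : ℕ) [hp : Fact p.Prime] [CharP k p] :
    ∃ n : ℕ, ∀ x : WithConv (A →ₐ[k] k), x ^ p ^ n = 1 := by
  obtain ⟨C, hfin, hC, hinj⟩ := exists_faithful k A
  letI := ComodSub.Comod.restr (HopfRep.Comod.regular k A) C hC
  obtain ⟨n, hn⟩ : ∃ n, Module.finrank k C ≤ p ^ n :=
    ⟨_, (Nat.lt_pow_self hp.out.one_lt).le⟩
  refine ⟨n, fun x => hinj ?_⟩
  rw [map_pow, map_one]
  have hnil : IsNilpotent (ptAct (A := A) C x - 1) := Groth.Agent.S7987.result k A hU x.ofConv C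
  have h0 : (ptAct (A := A) C x - 1) ^ Module.finrank k C = 0 := by
    have h := LinearMap.aeval_self_charpoly (ptAct (A := A) C x - 1)
    rwa [hnil.charpoly_eq_X_pow_finrank, map_pow, Polynomial.aeval_X] at h
  have h1 : ((X : k[X]) - 1) ^ p ^ n = X ^ p ^ n - 1 := by
    rw [sub_pow_char_pow, one_pow]
  have h2 := congrArg (Polynomial.aeval (ptAct (A := A) C x)) h1
  simp only [map_pow, map_sub, Polynomial.aeval_X, map_one] at h2
  rw [← sub_eq_zero, ← h2, ← Nat.add_sub_cancel' hn, pow_add, h0, zero_mul]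

theorem pow_p_eq_one (hU : HopfRep.IsUnipotent k A) (p : ℕ) [hp : Fact p.Prime] [CharP k p] :
    (toConv (AlgHom.id k A)) ^ p = 1 := by
  obtain ⟨N, hN⟩ := points_pow_eq_one hU p
  let ι₀ : WithConv (A →ₐ[k] A) := toConv (AlgHom.id k A)
  have hcomp : ∀ (f : A →ₐ[k] A) (n : ℕ), toConv (f.comp (ι₀ ^ n).ofConv) = toConv f ^ n := by
    intro f n
    induction n with
    | zero => rw [pow_zero, pow_zero]; exact L08.comp_one f
    | succ n ih => rw [pow_succ, pow_succ, post_mul', ih]; rfl
  have hpt : ∀ (x : A →ₐ[k] k) (n : ℕ), toConv (x.comp (ι₀ ^ n).ofConv) = toConv x ^ n := by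
    intro x n
    induction n with
    | zero => rw [pow_zero, pow_zero]; exact L08.comp_one x
    | succ n ih => rw [pow_succ, pow_succ, post_mul', ih]; rfl
  refine WithConv.ofConv_injective (algHom_ext_points fun x => WithConv.toConv_injective ?_)
  rw [hpt, show toConv (x.comp (1 : WithConv (A →ₐ[k] A)).ofConv) = 1 from L08.comp_one x]
  rcases injective_or_const (ι₀ ^ p).ofConv with hinj | ⟨χ, hχ⟩
  · have hall : ∀ n, Function.Injective (ι₀ ^ p ^ n).ofConv := by
      intro n
      induction n with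
      | zero => simpa [ι₀] using Function.injective_id
      | succ n ih =>
        have h := hcomp (ι₀ ^ p ^ n).ofConv p
        rw [toConv_ofConv, ← pow_mul, ← pow_succ] at h
        rw [← h]
        exact ih.comp hinj
    have hN' : ι₀ ^ p ^ N = 1 :=
      WithConv.ofConv_injective (algHom_ext_points fun y => WithConv.toConv_injective (by
        rw [hpt, hN]; exact (L08.comp_one y).symm))
    have hA : ∀ a : A, a = algebraMap k A (Coalgebra.counit (R := k) a) := fun a => hall N (by
      rw [hN', AlgHom.convOne_apply, AlgHom.convOne_apply, Bialgebra.counit_algebraMap])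
    have hx : toConv x = 1 := WithConv.ofConv_injective (AlgHom.ext fun a => by
      show x a = _
      conv_lhs => rw [hA a]
      rw [AlgHom.commutes, AlgHom.convOne_apply])
    rw [hx, one_pow]
  · have hy : ∀ y : A →ₐ[k] k, toConv χ = toConv y ^ p := fun y => by
      rw [← hpt]
      exact congrArg toConv (AlgHom.ext fun a => by simp [hχ])
    rw [← hy x, hy (1 : WithConv (A →ₐ[k] k)).ofConv, toConv_ofConv, one_pow]

/-- In characteristic zero, a non-zero additive function generates. -/
theorem mem_adjoin_charZero [CharZero k] (hU : HopfRep.IsUnipotent k A) {g : A} (hg : IsPrim (k := k) g)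
    (h0 : g ≠ 0) (a : A) : a ∈ Algebra.adjoin k {g} := by
  classical
  let J := Ideal.span {g}
  have hrep : Dyn.Represents k A J (fun R _ _ f => f g = 0) := by
    intro R _ _ f
    refine ⟨fun h => h g (Ideal.mem_span_singleton_self g), fun h b hb => ?_⟩
    obtain ⟨c, rfl⟩ := Ideal.mem_span_singleton'.1 hb
    rw [map_mul, h, mul_zero]
  haveI hJ : J.IsHopfIdeal k := isHopfIdeal_of_represents hrep
    (fun R _ _ => conv_one_prim hg)
    (fun R _ _ x y hx hy => by rw [conv_prim hg, hx, hy, add_zero])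
    (fun R _ _ x hx => by
      show x.ofConv (HopfAlgebraStruct.antipode k g) = 0
      rw [hg.antipode, map_neg, hx, neg_zero])
  haveI := finite_quotient (k := k) h0
  haveI : IsReduced (A ⧸ J) := CartierRed.isReduced (k := k)
  haveI : Finite ((A ⧸ J) →ₐ[k] k) := Finite.algHom k (A ⧸ J) k
  haveI : Algebra.FormallySmooth k A := Groth.L01.SmoothKer.formallySmooth_of_isReduced
  let π := Ideal.Quotient.mkₐ k J
  have hpts : ∀ x : WithConv (A →ₐ[k] k), x.ofConv g = 0 → x = 1 := by
    intro x hx
    have hfin : IsOfFinOrder x := by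
      by_contra hinf
      have hpow : ∀ n : ℕ, (x ^ n).ofConv g = 0 := fun n => by rw [conv_pow_prim hg, hx, mul_zero]
      let f : ℕ → ((A ⧸ J) →ₐ[k] k) := fun n => Ideal.Quotient.liftₐ J (x ^ n).ofConv ((hrep k _).2 (hpow n))
      refine not_injective_infinite_finite f fun m n h => injective_pow_iff_not_isOfFinOrder.2 hinf ?_
      refine WithConv.ofConv_injective (AlgHom.ext fun b => ?_)
      exact congrArg (fun ψ : (A ⧸ J) →ₐ[k] k => ψ (π b)) h
    exact Groth.Agent.S15177.result k A hU x hfin (Nat.cast_ne_zero.2 hfin.orderOf_pos.ne')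
  haveI : Algebra.FiniteType k (A ⧸ J) :=
    Algebra.FiniteType.of_surjective π Ideal.Quotient.mk_surjective
  have hπ : π.toLinearMap = (Algebra.linearMap k (A ⧸ J)) ∘ₗ Coalgebra.counit := by
    refine LinearMap.ext fun b => ext_points (k := k) fun y => ?_
    have h1 := hpts (toConv (y.comp π)) (show y (π g) = 0 by
      rw [show π g = 0 from Ideal.Quotient.eq_zero_iff_mem.2 (Ideal.mem_span_singleton_self g), map_zero])
    have h2 := congrArg (fun t : WithConv (A →ₐ[k] k) => t.ofConv b) h1
    simpa [AlgHom.convOne_apply] using h2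
  refine mem_adjoin_of_fixed hg ?_
  show TensorProduct.map LinearMap.id π.toLinearMap _ = _
  rw [hπ, ← LinearMap.lTensor_def, LinearMap.lTensor_comp_apply, Coalgebra.lTensor_counit_comul]
  simp

/-- Every element is a polynomial in some additive function. -/
theorem exists_prim_of_mem [Coalgebra.IsCocomm k A] (hU : HopfRep.IsUnipotent k A) (a : A) :
    ∃ g : A, IsPrim (k := k) g ∧ a ∈ Algebra.adjoin k {g} := by
  classical
  letI := HopfRep.Comod.regular k A
  obtain ⟨m, F, hF0, hFm, hs⟩ := hasFlag_of_isUnipotent hU a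
  suffices H : ∀ j, ∀ v ∈ F j, ∃ g : A, IsPrim (k := k) g ∧ v ∈ Algebra.adjoin k {g} from H m a hFm
  intro j
  induction j with
  | zero => intro v hv; rw [hF0, Submodule.mem_bot] at hv; exact ⟨0, isPrim_zero, by rw [hv]; exact zero_mem _⟩
  | succ j ih =>
  intro v hv
  obtain ⟨_, rfl, hstep⟩ := hs j
  let b := Module.Basis.ofVectorSpace k A
  let d := Coalgebra.comul (R := k) v - v ⊗ₜ[k] (1 : A)
  let co := TensorProduct.equivFinsuppOfBasisRight b d
  have hco : ∀ i, co i ∈ F j := by
    intro i
    have key : ∀ y, TensorProduct.equivFinsuppOfBasisRight b y i =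
        TensorProduct.rid k A ((b.coord i).lTensor A y) := by
      intro y
      induction y with
      | zero => simp
      | add p q hp hq => simp only [map_add, Finsupp.add_apply, hp, hq]
      | tmul m n => simp [TensorProduct.equivFinsuppOfBasisRight_apply_tmul_apply]
    simp only [co, d, map_sub, Finsupp.sub_apply, key, LinearMap.lTensor_tmul, TensorProduct.rid_tmul]
    exact hstep v hv (b.coord i)
  obtain ⟨g₀, hg₀, hgall⟩ := exists_gen_finset (k := k) (co.support.image co) (fun x hx => by
    obtain ⟨i, -, rfl⟩ := Finset.mem_image.1 hx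
    exact ih _ (hco i))
  have hd : ∀ φ : A →ₗ[k] k, TensorProduct.rid k A (φ.lTensor A (Coalgebra.comul (R := k) v)) - φ 1 • v ∈
      Algebra.adjoin k {g₀} := by
    intro φ
    have h1 : TensorProduct.rid k A (φ.lTensor A d) ∈ Algebra.adjoin k {g₀} := by
      rw [← (TensorProduct.equivFinsuppOfBasisRight b).symm_apply_apply d,
        TensorProduct.equivFinsuppOfBasisRight_symm_apply, Finsupp.sum, map_sum, map_sum]
      refine Subalgebra.sum_mem _ fun i hi => ?_
      rw [LinearMap.lTensor_tmul, TensorProduct.rid_tmul]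
      exact Subalgebra.smul_mem _ (hgall _ (Finset.mem_image_of_mem co hi)) _
    simpa only [d, map_sub, LinearMap.lTensor_tmul, TensorProduct.rid_tmul] using h1
  obtain ⟨p, hp⟩ := ExpChar.exists k
  by_cases hg00 : g₀ = 0
  · have hw := isPrim_of_step (k := k) (v := v) fun φ => by
      have := hd φ
      rw [hg00, mem_adjoin_iff] at this
      obtain ⟨r, hr⟩ := this
      exact ⟨r.coeff 0, by rw [← hr, coeff_zero_eq_aeval_zero']⟩
    refine ⟨_, hw, ?_⟩
    have h1 := add_mem (Algebra.self_mem_adjoin_singleton k (v - algebraMap k A (Coalgebra.counit (R := k) v)))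
      (Subalgebra.algebraMap_mem (Algebra.adjoin k {v - algebraMap k A (Coalgebra.counit (R := k) v)})
        (Coalgebra.counit (R := k) v))
    rwa [sub_add_cancel] at h1
  cases hp with
  | zero => exact ⟨g₀, hg₀, mem_adjoin_charZero hU hg₀ hg00 v⟩
  | prime hpp =>
  haveI : Fact p.Prime := ⟨hpp⟩
  have htr : ∀ r : k[X], Polynomial.aeval g₀ r = 0 → r = 0 := fun r => eq_zero_of_aeval hg₀ hg00
  obtain ⟨L, hL⟩ := exists_leftInv htr
  obtain ⟨Φ, hΦ, hsym, hcoc⟩ := exists_cocycle hg₀ L hL (v := v) (fun φ =>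
    sub_mem (hd φ) (Subalgebra.smul_mem _ (one_mem _) _))
  obtain ⟨G, r, rfl⟩ := Groth.L25.CocycleNormalForm.form_of_cocycle p Φ hsym hcoc
  let ι₀ : WithConv (A →ₐ[k] A) := toConv (AlgHom.id k A)
  have hid : ι₀.ofConv = AlgHom.id k A := rfl
  -- the telescope
  have htel : ∀ n : ℕ, (ι₀ ^ n).ofConv v = algebraMap k A (Coalgebra.counit (R := k) v) + (n : A) * v +
      ∑ i ∈ Finset.range n, MvPolynomial.aeval ![(i : A) * g₀, g₀]
        (Groth.L25.CocycleNormalForm.delta G + r.sum fun t c => MvPolynomial.C c * Groth.L25.CocycleNormalForm.Si p t) := by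
    intro n
    induction n with
    | zero => simp [AlgHom.convOne_apply]
    | succ n ihn =>
      rw [pow_succ, conv_step hΦ, ihn, conv_pow_prim hg₀, Finset.sum_range_succ, hid, Nat.cast_succ]
      simp only [AlgHom.id_apply]
      ring
  have hp0 : (p : A) = 0 := by rw [← map_natCast (algebraMap k A) p, CharP.cast_eq_zero, map_zero]
  have hdelta : ∀ n : ℕ, ∑ i ∈ Finset.range n,
      MvPolynomial.aeval ![(i : A) * g₀, g₀] (Groth.L25.CocycleNormalForm.delta G) =
        Polynomial.aeval ((n : A) * g₀) G - Polynomial.aeval (0 : A) G - (n : A) * Polynomial.aeval g₀ G := by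
    intro n
    induction n with
    | zero => simp
    | succ n ihn =>
      rw [Finset.sum_range_succ, ihn, Groth.L25.CocycleNormalForm.delta]
      simp only [map_sub, ← Polynomial.aeval_algHom_apply, map_add, MvPolynomial.aeval_X,
        Matrix.cons_val_zero, Matrix.cons_val_one, Nat.cast_succ, add_mul, one_mul]
      ring
  have hT : ((∑ i ∈ Finset.range p, ∑ j ∈ Finset.Ioo 0 p, p.choose j / p * i ^ j : ℕ) : k) = -1 := by
    have hN : ∀ n : ℕ, p * (∑ i ∈ Finset.range n, ∑ j ∈ Finset.Ioo 0 p, p.choose j / p * i ^ j) + n = n ^ p := by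
      intro n
      induction n with
      | zero => simp [hpp.ne_zero]
      | succ n ihn =>
        rw [Finset.sum_range_succ, mul_add, add_pow, Finset.sum_range_succ (n := p),
          show Finset.range p = insert 0 (Finset.Ioo 0 p) by
            ext i; simp; have := hpp.pos; omega, Finset.sum_insert (by simp)]
        have e : ∀ j ∈ Finset.Ioo 0 p, p * (p.choose j / p * n ^ j) = n ^ j * 1 ^ (p - j) * p.choose j := by
          intro j hj
          rw [Finset.mem_Ioo] at hj
          rw [← mul_assoc, Nat.mul_div_cancel' (hpp.dvd_choose_self hj.1.ne' hj.2), one_pow, mul_one, mul_comm]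
        simp only [Nat.cast_id]
        rw [← Finset.sum_congr rfl e, ← Finset.mul_sum]
        simp only [pow_zero, one_pow, Nat.choose_zero_right, Nat.choose_self, Nat.sub_self, mul_one, Nat.cast_one,
          Nat.cast_id]
        omega
    have h1 := hN p
    have h2 : (∑ i ∈ Finset.range p, ∑ j ∈ Finset.Ioo 0 p, p.choose j / p * i ^ j) + 1 = p ^ (p - 1) := by
      refine Nat.eq_of_mul_eq_mul_left hpp.pos ?_
      rw [mul_add, mul_one, h1, ← pow_succ', Nat.sub_add_cancel hpp.one_le]
    rw [eq_neg_iff_add_eq_zero, ← Nat.cast_one, ← Nat.cast_add, h2, Nat.cast_pow, CharP.cast_eq_zero,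
      zero_pow (Nat.sub_pos_of_lt hpp.one_lt).ne']
  haveI : Nontrivial A := inferInstance
  haveI : CharP A p := charP_of_injective_algebraMap (algebraMap k A).injective p
  have hSi : ∀ t, ∑ i ∈ Finset.range p,
      MvPolynomial.aeval ![(i : A) * g₀, g₀] (Groth.L25.CocycleNormalForm.Si p t : MvPolynomial (Fin 2) k) =
        -(g₀ ^ p ^ (t + 1)) := by
    intro t
    have e : ∀ i : ℕ, MvPolynomial.aeval ![(i : A) * g₀, g₀] (Groth.L25.CocycleNormalForm.Si p t : MvPolynomial (Fin 2) k) =
        ((∑ j ∈ Finset.Ioo 0 p, p.choose j / p * i ^ j : ℕ) : A) * g₀ ^ p ^ (t + 1) := by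
      intro i
      have hi : ((i : A) ^ p ^ t) = (i : A) := by
        have h1 := map_natCast (iterateFrobenius A p t) i
        rwa [iterateFrobenius_def] at h1
      rw [Groth.L25.CocycleNormalForm.Si_eq, map_sum, Nat.cast_sum, Finset.sum_mul]
      refine Finset.sum_congr rfl fun j hj => ?_
      rw [Finset.mem_Ioo] at hj
      simp only [map_mul, map_pow, MvPolynomial.aeval_X, MvPolynomial.aeval_C,
        Matrix.cons_val_zero, Matrix.cons_val_one, mul_pow, Nat.cast_mul, Nat.cast_pow, map_natCast]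
      have hle : j * p ^ t ≤ p ^ (t + 1) := by
        rw [pow_succ']; exact Nat.mul_le_mul_right _ hj.2.le
      rw [mul_comm j (p ^ t), pow_mul, hi, ← mul_comm j (p ^ t)]
      conv_rhs => rw [← Nat.add_sub_cancel' hle, pow_add]
      ring
    simp only [e, ← Finset.sum_mul, ← Nat.cast_sum]
    rw [← map_natCast (algebraMap k A), hT, map_neg, map_one, neg_one_mul]
  have hr0 : r = 0 := by
    have h := htel p
    rw [pow_p_eq_one hU p, AlgHom.convOne_apply, hp0, zero_mul, add_zero] at h
    simp only [map_add, Finset.sum_add_distrib, hdelta, hp0, zero_mul, sub_self, zero_sub, sub_zero,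
      map_finsuppSum, map_sum, map_mul, MvPolynomial.aeval_C, Finsupp.sum] at h
    rw [Finset.sum_comm] at h
    simp only [← Finset.mul_sum, hSi, mul_neg, Finset.sum_neg_distrib] at h
    let Q : k[X] := ∑ t ∈ r.support, C (r t) * X ^ p ^ (t + 1)
    have hQ : Polynomial.aeval g₀ Q = 0 := by
      simp only [Q, map_sum, map_mul, map_pow, Polynomial.aeval_X, Polynomial.aeval_C]
      linear_combination h
    have hQ0 := htr Q hQ
    ext t
    by_contra hne
    have hc := congrArg (fun q => Polynomial.coeff q (p ^ (t + 1))) hQ0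
    simp only [Q, finset_sum_coeff, coeff_C_mul_X_pow, coeff_zero] at hc
    rw [Finset.sum_eq_single t (fun s _ hst => if_neg fun e => hst ((Nat.succ_injective
      (Nat.pow_right_injective hpp.two_le e)).symm)) (fun hnm => by simp [Finsupp.notMem_support_iff.1 hnm]),
      if_pos rfl] at hc
    exact hne hc
  subst hr0
  have hnew : IsPrim (k := k) (v - Polynomial.aeval g₀ G) := by
    unfold Groth.L01.SmoothKer.IsPrim at *
    rw [map_sub, hΦ, show Coalgebra.comul (R := k) (Polynomial.aeval g₀ G) =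
      Bialgebra.comulAlgHom k A (Polynomial.aeval g₀ G) from rfl, ← Polynomial.aeval_algHom_apply,
      Bialgebra.comulAlgHom_apply, hg₀]
    simp only [Finsupp.sum_zero_index, add_zero, Groth.L25.CocycleNormalForm.delta, φ2, map_sub,
      ← Polynomial.aeval_algHom_apply, map_add, MvPolynomial.aeval_X, Matrix.cons_val_zero, Matrix.cons_val_one]
    rw [TensorProduct.sub_tmul, TensorProduct.tmul_sub,
      show g₀ ⊗ₜ[k] (1 : A) = (Algebra.TensorProduct.includeLeft : A →ₐ[k] A ⊗[k] A) g₀ from rfl,
      show (1 : A) ⊗ₜ[k] g₀ = (Algebra.TensorProduct.includeRight : A →ₐ[k] A ⊗[k] A) g₀ from rfl]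
    rw [Polynomial.aeval_algHom_apply, Polynomial.aeval_algHom_apply]
    simp only [map_add, Algebra.TensorProduct.includeLeft_apply,
      Algebra.TensorProduct.includeRight_apply]
    abel
  obtain ⟨g', hg', h1, h2⟩ := exists_gen hg₀ hnew
  refine ⟨g', hg', ?_⟩
  have h3 : Polynomial.aeval g₀ G ∈ Algebra.adjoin k {g'} :=
    Algebra.adjoin_le (Set.singleton_subset_iff.2 h1) (mem_adjoin_iff.2 ⟨G, rfl⟩)
  have h4 := add_mem h2 h3
  rwa [sub_add_cancel] at h4

/-- A connected one-dimensional unipotent group is the additive group. -/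
theorem nonempty_equiv_symmetricAlgebra [Coalgebra.IsCocomm k A] (hU : HopfRep.IsUnipotent k A)
    (hne : ∃ a : A, a ≠ algebraMap k A (Coalgebra.counit (R := k) a)) :
    Nonempty (A ≃ₐc[k] SymmetricAlgebra k k) := by
  classical
  obtain ⟨s, hs⟩ := Algebra.FiniteType.out (R := k) (A := A)
  obtain ⟨g, hg, hgall⟩ := exists_gen_finset (k := k) s fun x _ => exists_prim_of_mem hU x
  have hgen : Algebra.adjoin k {g} = ⊤ := top_le_iff.1 (hs ▸ Algebra.adjoin_le hgall)
  have hg0 : g ≠ 0 := by
    rintro rfl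
    obtain ⟨a, ha⟩ := hne
    obtain ⟨q, rfl⟩ := mem_adjoin_iff.1 (hgen ▸ Algebra.mem_top : a ∈ Algebra.adjoin k {(0 : A)})
    exact ha (by rw [show (0 : A) = algebraMap k A 0 from (map_zero _).symm, Polynomial.aeval_algebraMap_apply_eq_algebraMap_eval,
      Bialgebra.counit_algebraMap])
  let Φ : SymmetricAlgebra k k →ₐ[k] A := SymmetricAlgebra.lift (LinearMap.toSpanSingleton k A g)
  let o : SymmetricAlgebra k k := SymmetricAlgebra.ι k k 1
  have hΦo : Φ o = g := by simp [Φ, o]
  let Ψ : k[X] →ₐ[k] SymmetricAlgebra k k := Polynomial.aeval o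
  have hΨ : Function.Surjective Ψ := by
    intro y
    induction y using SymmetricAlgebra.induction with
    | algebraMap c => exact ⟨C c, by simp [Ψ]⟩
    | ι x => exact ⟨C x * X, by simp [Ψ, o, ← Algebra.smul_def, ← map_smul]⟩
    | mul a b ha hb => obtain ⟨a', rfl⟩ := ha; obtain ⟨b', rfl⟩ := hb; exact ⟨a' * b', map_mul _ _ _⟩
    | add a b ha hb => obtain ⟨a', rfl⟩ := ha; obtain ⟨b', rfl⟩ := hb; exact ⟨a' + b', map_add _ _ _⟩
  have hΦΨ : ∀ q, Φ (Ψ q) = Polynomial.aeval g q := fun q => by
    rw [← Polynomial.aeval_algHom_apply, hΦo]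
  have hbij : Function.Bijective Φ := by
    refine ⟨(injective_iff_map_eq_zero Φ).2 fun y hy => ?_, fun a => ?_⟩
    · obtain ⟨q, rfl⟩ := hΨ y
      rw [eq_zero_of_aeval hg hg0 ((hΦΨ q).symm.trans hy), map_zero]
    · obtain ⟨q, rfl⟩ := mem_adjoin_iff.1 (hgen ▸ Algebra.mem_top : a ∈ Algebra.adjoin k {g})
      exact ⟨Ψ q, hΦΨ q⟩
  let Φb : SymmetricAlgebra k k →ₐc[k] A := BialgHom.ofAlgHom Φ
    (SymmetricAlgebra.algHom_ext (LinearMap.ext_ring (by simp [Φ, hg.counit, SymmetricAlgebra.algebraMapInv])))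
    (SymmetricAlgebra.algHom_ext (LinearMap.ext_ring (by
      simp [Φ, show Coalgebra.comul (R := k) g = _ from hg])))
  exact ⟨(BialgEquiv.ofBijective Φb hbij).symm⟩

end Groth.L01.DimOne
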