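import Groth.Agent.L01.DimOne.Comm
import Groth.Agent.L01.DimOne.Basic
import Groth.Agent.L01.UnipSplit.Split
import Groth.Agent.L01.LieKolchin
import Groth.Agent.L08.TorusQuot.Chars
import Mathlib.GroupTheory.SpecificGroups.Cyclic

/-!
# Connected one-dimensional groups are tori or unipotent
-/

set_option autoImplicit false

universe u

open TensorProduct Groth.L08

noncomputable section

namespace Groth.L01.DimOne

open Groth.L08.TorusQuot (liftGroupLike_injective groupLike_fg)

variable {k : Type u} [Field k] [IsAlgClosed k] {A : Type u} [CommRing A] [HopfAlgebra k A]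
  [Algebra.FiniteType k A] [IsDomain A] [Ring.KrullDimLE 1 A]

/-- A finitely generated one-dimensional character group is infinite cyclic. -/
theorem groupLike_mulEquiv (hsurj : Function.Surjective
      (MonoidAlgebra.liftGroupLikeBialgHom : MonoidAlgebra k (GroupLike k A) →ₐc[k] A))
    (hne : ∃ g : GroupLike k A, g ≠ 1) : Nonempty (GroupLike k A ≃* Multiplicative ℤ) := by
  classical
  obtain ⟨g, hg⟩ := hne
  haveI := groupLike_fg (k := k) (A := A)
  have htf : ∀ (x : GroupLike k A) (n : ℕ), 0 < n → x ^ n = 1 → x = 1 := by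
    intro x n hn hx
    have h : (x.val : A) ^ n = 1 := by rw [← GroupLike.val_pow, hx, GroupLike.val_one]
    obtain ⟨c, hc⟩ := mem_range_of_isIntegral (k := k) (A := A) (a := x.val)
      (IsIntegral.of_pow hn (by rw [h]; exact isIntegral_one))
    have h1 := x.isGroupLikeElem_val.counit_eq_one
    rw [hc, Bialgebra.counit_algebraMap] at h1
    exact GroupLike.val_injective (by rw [hc, h1, map_one, GroupLike.val_one])
  let H : Subgroup (GroupLike k A) := Subgroup.zpowers g
  let M := GroupLike k A ⧸ H
  let π : MonoidAlgebra k (GroupLike k A) →ₐc[k] MonoidAlgebra k M :=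
    MonoidAlgebra.mapDomainBialgHom k (QuotientGroup.mk' H)
  have hπ : Function.Surjective π := by
    intro z
    induction z using MonoidAlgebra.induction_linear with
    | zero => exact ⟨0, map_zero _⟩
    | add a b ha hb =>
      obtain ⟨a', rfl⟩ := ha; obtain ⟨b', rfl⟩ := hb
      exact ⟨a' + b', map_add _ _ _⟩
    | single m c =>
      obtain ⟨x, rfl⟩ := QuotientGroup.mk'_surjective H m
      exact ⟨MonoidAlgebra.single x c, by simp [π]; rfl⟩
  let e := BialgEquiv.ofBijective (MonoidAlgebra.liftGroupLikeBialgHom :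
    MonoidAlgebra k (GroupLike k A) →ₐc[k] A) ⟨liftGroupLike_injective, hsurj⟩
  let q : A →ₐ[k] MonoidAlgebra k M :=
    (π : MonoidAlgebra k (GroupLike k A) →ₐ[k] MonoidAlgebra k M).comp (e.symm : A ≃ₐc[k] _).toAlgEquiv.toAlgHom
  have hq : Function.Surjective q := hπ.comp e.symm.surjective
  have hgq : q (g.val - 1) = 0 := by
    have h1 : e.symm g.val = MonoidAlgebra.single g 1 := by
      refine (congrArg e.symm ?_).trans (e.symm_apply_apply _)
      show g.val = MonoidAlgebra.liftGroupLikeBialgHom (MonoidAlgebra.single g (1 : k))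
      simp
    rw [map_sub, map_one]
    show π (e.symm g.val) - 1 = 0
    rw [h1]
    simp [π, H, MonoidAlgebra.one_def]
    exact congrArg (fun m => MonoidAlgebra.single m (1 : k))
      ((QuotientGroup.eq_one_iff g).2 (Subgroup.mem_zpowers g)) |> sub_eq_zero.2
  let Q := A ⧸ RingHom.ker q
  have hne : RingHom.ker q ≠ ⊥ := fun h => by
    have : g.val - 1 ∈ RingHom.ker q := hgq
    rw [h, Ideal.mem_bot, sub_eq_zero] at this
    exact hg (GroupLike.val_injective (this.trans GroupLike.val_one.symm))
  haveI : IsNoetherianRing A := Algebra.FiniteType.isNoetherianRing k A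
  haveI : Ring.KrullDimLE 0 Q := Ring.KrullDimLE.mk₀ fun P hP => by
    haveI := hP
    haveI : (P.comap (Ideal.Quotient.mk _)).IsPrime := Ideal.comap_isPrime _ _
    haveI : (P.comap (Ideal.Quotient.mk (RingHom.ker q))).IsMaximal := by
      refine Ideal.IsPrime.isMaximal_of_ne_bot inferInstance fun h => hne (eq_bot_iff.2 ?_)
      rw [← h]
      exact fun x hx => by
        rw [Ideal.mem_comap, Ideal.Quotient.eq_zero_iff_mem.2 hx]; exact zero_mem _
    rw [← Ideal.map_comap_of_surjective (Ideal.Quotient.mk (RingHom.ker q)) Ideal.Quotient.mk_surjective P]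
    exact Ideal.IsMaximal.map_of_surjective_of_ker_le Ideal.Quotient.mk_surjective
      (Ideal.comap_mono (bot_le (a := P)))
  haveI : IsArtinianRing Q := isArtinianRing_iff_isNoetherianRing_krullDimLE_zero.2 ⟨inferInstance, inferInstance⟩
  haveI : Module.Finite k Q := by
    haveI : Algebra.FiniteType k Q :=
      Algebra.FiniteType.of_surjective (Ideal.Quotient.mkₐ k (RingHom.ker q)) Ideal.Quotient.mk_surjective
    exact (Module.finite_iff_isArtinianRing k Q).2 inferInstance
  haveI : Module.Finite k (MonoidAlgebra k M) :=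
    Module.Finite.equiv (Ideal.quotientKerAlgEquivOfSurjective hq).toLinearEquiv
  haveI hMfin : Finite M := Module.Finite.finite_basis (MonoidAlgebra.basis M k)
  have hn0 : 0 < Nat.card M := Nat.card_pos
  let N := Nat.card M
  have hpow : ∀ x : GroupLike k A, x ^ N ∈ H := fun x => by
    rw [← QuotientGroup.eq_one_iff, QuotientGroup.mk_pow]
    exact pow_card_eq_one'
  let φ : GroupLike k A →* H :=
    { toFun := fun x => ⟨x ^ N, hpow x⟩
      map_one' := Subtype.ext (one_pow N)
      map_mul' := fun x y => Subtype.ext (mul_pow x y N) }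
  have hφ : Function.Injective φ := by
    intro x y hxy
    have h : x ^ N = y ^ N := congrArg Subtype.val hxy
    exact div_eq_one.1 (htf _ N hn0 (by rw [div_pow, h, div_self']))
  haveI : IsCyclic H := Subgroup.isCyclic_zpowers g
  haveI : IsCyclic (GroupLike k A) := isCyclic_of_injective φ hφ
  haveI : Infinite (GroupLike k A) := by
    refine Infinite.of_injective (fun n : ℕ => g ^ n) fun a b hab => ?_
    by_contra hne'
    simp only at hab
    rcases Nat.lt_or_gt_of_ne hne' with h | h
    · exact hg (htf g (b - a) (Nat.sub_pos_of_lt h) (by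
        rw [pow_sub g h.le, hab, mul_inv_cancel]))
    · exact hg (htf g (a - b) (Nat.sub_pos_of_lt h) (by
        rw [pow_sub g h.le, hab, mul_inv_cancel]))
  exact ⟨mulEquivOfCyclicCardEq (by rw [Nat.card_eq_zero_of_infinite, Nat.card_eq_zero_of_infinite])⟩

/-- A connected one-dimensional group is a torus or unipotent. -/
theorem torus_or_unipotent :
    Nonempty (A ≃ₐc[k] MonoidAlgebra k (Multiplicative ℤ)) ∨ HopfRep.IsUnipotent k A := by
  classical
  haveI : IsReduced A := inferInstance
  have hconn : ∀ e : A, IsIdempotentElem e → e = 0 ∨ e = 1 := fun e he => IsIdempotentElem.iff_eq_zero_or_one.1 he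
  haveI : Group.IsSolvable (WithConv (A →ₐ[k] k)) := Group.isSolvable_of_comm points_comm
  obtain ⟨B, _, _, ψ, J, hJhopf, hψ, hB, hJ, hU⟩ :=
    (Groth.Agent.S7967.result k A).1 (LieKolchin.isTrigonalizable (k := k) hconn)
  haveI := hJhopf
  haveI : IsNoetherianRing A := Algebra.FiniteType.isNoetherianRing k A
  haveI : IsDomain B := Function.Injective.isDomain ψ hψ
  by_cases htriv : ∀ b : B, b = algebraMap k B (Coalgebra.counit (R := k) b)
  · refine Or.inr ?_
    have hJ0 : J = ⊥ := by
      rw [hJ, eq_bot_iff, Ideal.map_le_iff_le_comap]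
      intro b hb
      have hb0 : Coalgebra.counit (R := k) b = 0 := hb
      rw [Ideal.mem_comap, Ideal.mem_bot, htriv b, hb0, map_zero, map_zero]
    let p := Bialgebra.Quotient.mkBialgHom (R := k) J
    have hp : Function.Bijective p :=
      ⟨(injective_iff_map_eq_zero p).2 fun a ha => by
        have h := Ideal.Quotient.eq_zero_iff_mem.1 ha
        rwa [hJ0, Ideal.mem_bot] at h, Ideal.Quotient.mk_surjective⟩
    let e := BialgEquiv.ofBijective p hp
    refine isUnipotent_of_hasFlag (hasFlag_of_surjective
      (π := ((e.symm : (A ⧸ J) →ₐc[k] A) : (A ⧸ J) →ₗc[k] A)) e.symm.surjective ?_ (hasFlag_of_isUnipotent hU))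
    rintro x rfl
    exact map_one e.symm
  · refine Or.inl ?_
    push Not at htriv
    obtain ⟨b₀, hb₀⟩ := htriv
    have hspan : ∀ b : B, b ∈ Submodule.span k (Set.range fun g : GroupLike k B => g.val) := fun b => by
      refine Submodule.span_mono ?_ (hB.ge (Submodule.mem_top (x := b)))
      exact fun a ha => ⟨⟨a, ha⟩, rfl⟩
    have hBsurj : Function.Surjective
        (MonoidAlgebra.liftGroupLikeBialgHom : MonoidAlgebra k (GroupLike k B) →ₐc[k] B) := by
      intro b
      induction hspan b using Submodule.span_induction with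
      | mem a ha => obtain ⟨g, rfl⟩ := ha; exact ⟨MonoidAlgebra.single g 1, by simp⟩
      | zero => exact ⟨0, map_zero _⟩
      | add a c _ _ ha hc =>
        obtain ⟨a', rfl⟩ := ha; obtain ⟨c', rfl⟩ := hc
        exact ⟨a' + c', map_add _ _ _⟩
      | smul r a _ ha => obtain ⟨a', rfl⟩ := ha; exact ⟨r • a', map_smul _ _ _⟩
    have hBinj : Function.Injective
        (MonoidAlgebra.liftGroupLikeBialgHom : MonoidAlgebra k (GroupLike k B) →ₐc[k] B) := by
      intro x y hxy
      have h : ∀ z : MonoidAlgebra k (GroupLike k B), MonoidAlgebra.liftGroupLikeBialgHom z =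
          Finsupp.linearCombination k (fun g : GroupLike k B => g.val) z.coeff := by
        intro z
        induction z using MonoidAlgebra.induction_linear with
        | zero => simp
        | add a b ha hb => simp only [map_add, ha, hb, MonoidAlgebra.coeff_add]
        | single g c => simp [Algebra.smul_def]
      rw [h, h] at hxy
      exact MonoidAlgebra.coeff_injective (linearIndep_groupLikeVal hxy)
    have hdiag : SGA3b.IsDiag k B := ⟨GroupLike k B, inferInstance,
      ⟨(BialgEquiv.ofBijective (MonoidAlgebra.liftGroupLikeBialgHom :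
        MonoidAlgebra k (GroupLike k B) →ₐc[k] B) ⟨hBinj, hBsurj⟩).symm⟩⟩
    obtain ⟨r, hr⟩ := UnipSplit.exists_retraction hdiag ψ hψ J hJ hU
    have hrψ : ∀ b, r (ψ b) = b := fun b => congrArg (fun f : B →ₐc[k] B => f b) hr
    have hrinj : Function.Injective r := by
      rcases injective_or_const (r : A →ₐ[k] B) with h | ⟨χ, hχ⟩
      · exact h
      · refine absurd ?_ hb₀
        have h1 : b₀ = algebraMap k B (χ (ψ b₀)) := (hrψ b₀).symm.trans (hχ _)
        have h2 := congrArg (Coalgebra.counit (R := k)) h1
        rw [Bialgebra.counit_algebraMap] at h2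
        rw [h2]; exact h1
    let eA : A ≃ₐc[k] B := BialgEquiv.ofBijective r ⟨hrinj, fun b => ⟨ψ b, hrψ b⟩⟩
    haveI : Algebra.FiniteType k B := Algebra.FiniteType.equiv inferInstance eA.toAlgEquiv
    haveI : Ring.KrullDimLE 1 B :=
      Ring.krullDimLE_iff.2 ((ringKrullDim_eq_of_ringEquiv eA.toAlgEquiv.toRingEquiv).ge.trans
        (Ring.krullDimLE_iff.1 inferInstance))
    obtain ⟨f⟩ := groupLike_mulEquiv hBsurj (by
      by_contra! hall
      refine hb₀ ?_
      clear hb₀
      induction hspan b₀ using Submodule.span_induction with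
      | mem a ha =>
        obtain ⟨g, rfl⟩ := ha
        simp [hall g]
      | zero => simp
      | add a c _ _ ha hc => rw [map_add, map_add]; exact congrArg₂ (· + ·) ha hc
      | smul r a _ ha =>
        rw [map_smul, smul_eq_mul, map_mul, Algebra.smul_def]
        exact congrArg _ ha)
    exact ⟨eA.trans ((BialgEquiv.ofBijective (MonoidAlgebra.liftGroupLikeBialgHom :
        MonoidAlgebra k (GroupLike k B) →ₐc[k] B) ⟨hBinj, hBsurj⟩).symm.trans
        (MonoidAlgebra.domCongrBialgEquiv (R := k) (A := k) f))⟩

end Groth.L01.DimOne
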